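import Mathlib.AlgebraicGeometry.Group.Smooth
import Mathlib.CategoryTheory.Monoidal.Cartesian.Over
import Mathlib.CategoryTheory.Monoidal.Cartesian.Grp
import Mathlib.AlgebraicGeometry.GammaSpecAdjunction
import Groth.Prelude.Def_AlgGrp

/-!
# Morphisms from anti-affine schemes to affine schemes are constant
-/

set_option autoImplicit false
universe u
open CategoryTheory MonoidalCategory CartesianMonoidalCategory MonObj AlgebraicGeometry
  CategoryTheory.Limits

namespace K398.AntiAff

variable {k : Type u} [Field k]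

/-- The anti-affineness hypothesis of the statements. -/
theorem isIso_appTop {G : Over (Spec (CommRingCat.of k))}
    (hG : Function.Bijective ((Scheme.ΓSpecIso (CommRingCat.of k)).inv ≫ G.hom.appTop).hom) :
    IsIso G.hom.appTop := by
  have h1 : IsIso ((Scheme.ΓSpecIso (CommRingCat.of k)).inv ≫ G.hom.appTop) :=
    (ConcreteCategory.isIso_iff_bijective _).mpr hG
  exact IsIso.of_isIso_comp_left (Scheme.ΓSpecIso (CommRingCat.of k)).inv _

theorem bijective_of_isIso {G : Over (Spec (CommRingCat.of k))} (hG : IsIso G.hom.appTop) :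
    Function.Bijective ((Scheme.ΓSpecIso (CommRingCat.of k)).inv ≫ G.hom.appTop).hom :=
  ConcreteCategory.bijective_of_isIso _

/-- A morphism `p : M ⟶ S` to an affine scheme inducing an isomorphism on global functions, with a section `s`:
every morphism from `M` to an affine scheme is constant along `p`. -/
theorem eq_comp_section {M S X : Scheme.{u}} [IsAffine X] [IsAffine S] (p : M ⟶ S) [IsIso p.appTop]
    (s : S ⟶ M) (hs : s ≫ p = 𝟙 S) (f : M ⟶ X) : f = p ≫ s ≫ f := by
  have h1 : ∃ c : S ⟶ X, f = p ≫ c := by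
    refine ⟨S.toSpecΓ ≫ inv (Spec.map p.appTop) ≫ Spec.map f.appTop ≫ inv X.toSpecΓ, ?_⟩
    rw [← Category.assoc p, Scheme.toSpecΓ_naturality, Category.assoc, IsIso.hom_inv_id_assoc,
      ← Category.assoc, ← Scheme.toSpecΓ_naturality, Category.assoc, IsIso.hom_inv_id,
      Category.comp_id]
  obtain ⟨c, hc⟩ := h1
  rw [hc, ← Category.assoc s, hs, Category.id_comp]

/-- Morphisms from an anti-affine pointed `k`-scheme to an affine scheme over `k` are constant. -/
theorem eq_const {M X : Over (Spec (CommRingCat.of k))} [IsIso M.hom.appTop] [IsAffine X.left]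
    (s : 𝟙_ (Over (Spec (CommRingCat.of k))) ⟶ M) (f : M ⟶ X) : f = toUnit M ≫ s ≫ f := by
  ext
  have h := eq_comp_section M.hom s.left (Over.w s) f.left
  simpa using h

/-- Maps to a scheme `Y` over `k`, composed with the canonical map to `Spec Γ(Y)`. -/
theorem comp_toSpecΓ_eq {M Y : Over (Spec (CommRingCat.of k))} [IsIso M.hom.appTop]
    (s : 𝟙_ (Over (Spec (CommRingCat.of k))) ⟶ M) (f : M ⟶ Y) :
    f.left ≫ Y.left.toSpecΓ = M.hom ≫ s.left ≫ f.left ≫ Y.left.toSpecΓ :=
  eq_comp_section M.hom s.left (Over.w s) (f.left ≫ Y.left.toSpecΓ)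

end K398.AntiAff
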