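import Groth.Agent.AlgGrp.K398.Affin
import Groth.Agent.Agf.H623.SchSurj
import Groth.Agent.Sga3B.RG.BrPts
import Groth.Agent.FlatB.GeomRed
import Groth.Agent.Sga3.H821.AffProper
import Groth.Agent.S3034
import Groth.Agent.S3030
import Groth.Agent.S3280
import Groth.Agent.Books.AlgPtsSmooth

/-!
# A toolkit for algebraic groups over an algebraically closed field

Surjective homomorphisms, quotients of affine groups, triviality criteria, descent of properness.
-/

set_option autoImplicit false
universe u
open CategoryTheory MonoidalCategory CartesianMonoidalCategory MonObj GrpObj AlgebraicGeometry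
  CategoryTheory.Limits

namespace K398.Pts

open Groth.Agent Groth.Agent.Books.AlgPts

variable {k : Type u} [Field k]

theorem quasiCompact_left {X Y : Over (Spec (CommRingCat.of k))} [LocallyOfFiniteType Y.hom]
    [QuasiCompact X.hom] (f : X ⟶ Y) : QuasiCompact f.left := by
  have : IsLocallyNoetherian Y.left := LocallyOfFiniteType.isLocallyNoetherian Y.hom
  have h : QuasiCompact (f.left ≫ Y.hom) := by rw [Over.w]; infer_instance
  exact QuasiCompact.of_comp f.left Y.hom

theorem locallyOfFiniteType_left {X Y : Over (Spec (CommRingCat.of k))} [LocallyOfFiniteType X.hom]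
    (f : X ⟶ Y) : LocallyOfFiniteType f.left := by
  have h : LocallyOfFiniteType (f.left ≫ Y.hom) := by rw [Over.w]; infer_instance
  exact locallyOfFiniteType_of_comp f.left Y.hom

theorem quasiCompact_of_surjective {X Y : Over (Spec (CommRingCat.of k))} [QuasiCompact X.hom]
    (f : X ⟶ Y) [Surjective f.left] : QuasiCompact Y.hom := by
  have h : CompactSpace X.left := (quasiCompact_iff_compactSpace X.hom).1 inferInstance
  have h' : CompactSpace Y.left := (Surjective.surj (f := f.left)).compactSpace f.left.continuous
  exact (quasiCompact_iff_compactSpace Y.hom).2 h'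

theorem connectedSpace_of_surjective {X Y : Over (Spec (CommRingCat.of k))} [ConnectedSpace X.left]
    (f : X ⟶ Y) [Surjective f.left] : ConnectedSpace Y.left :=
  (Surjective.surj (f := f.left)).connectedSpace f.left.continuous

/-- The target of a surjective morphism from a proper scheme is proper. -/
theorem isProper_of_surjective {X Y : Over (Spec (CommRingCat.of k))} [IsProper X.hom]
    (f : X ⟶ Y) [Surjective f.left] [LocallyOfFiniteType Y.hom] [IsSeparated Y.hom] : IsProper Y.hom := by
  have h1 : QuasiCompact Y.hom := quasiCompact_of_surjective f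
  have h2 : UniversallyClosed Y.hom := by
    have h : UniversallyClosed (f.left ≫ Y.hom) := by rw [Over.w]; infer_instance
    exact UniversallyClosed.of_comp_surjective f.left Y.hom
  exact { }

/-- Factorization of a homomorphism through its image. -/
theorem exists_image {G H : Over (Spec (CommRingCat.of k))} [GrpObj G] [GrpObj H]
    [LocallyOfFiniteType G.hom] [LocallyOfFiniteType H.hom] [QuasiCompact G.hom] (u : G ⟶ H) [IsMonHom u] :
    ∃ (C : Over (Spec (CommRingCat.of k))) (_ : GrpObj C) (p : G ⟶ C) (i : C ⟶ H), IsMonHom p ∧
      IsMonHom i ∧ p ≫ i = u ∧ Flat p.left ∧ Surjective p.left ∧ LocallyOfFinitePresentation p.left ∧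
      IsClosedImmersion i.left := by
  have hI : IsIntegral (𝟙_ (Over (Spec (CommRingCat.of k)))).left :=
    inferInstanceAs (IsIntegral (Spec (CommRingCat.of k)))
  have hS : Subsingleton (𝟙_ (Over (Spec (CommRingCat.of k)))).left :=
    inferInstanceAs (Subsingleton (Spec (CommRingCat.of k)))
  have hqc : QuasiCompact u.left := quasiCompact_left u
  exact S3034.result k G H u (by infer_instance)

/-- A surjective closed immersion to a reduced scheme is an isomorphism. -/
theorem isIso_of_closed_surjective {X Y : Over (Spec (CommRingCat.of k))} [IsReduced Y.left] (i : X ⟶ Y)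
    [IsClosedImmersion i.left] [Surjective i.left] : IsIso i := by
  have h : IsIso i.left := isIso_of_isClosedImmersion_of_surjective i.left
  have : IsIso ((Over.forget _).map i) := h
  exact isIso_of_reflects_iso i (Over.forget _)

/-- A surjective homomorphism to a reduced group is flat. -/
theorem flat_of_surjective {G H : Over (Spec (CommRingCat.of k))} [GrpObj G] [GrpObj H]
    [LocallyOfFiniteType G.hom] [LocallyOfFiniteType H.hom] [QuasiCompact G.hom] (u : G ⟶ H) [IsMonHom u]
    [Surjective u.left] [IsReduced H.left] : Flat u.left := by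
  obtain ⟨C, _, p, i, h1, h2, h3, h4, h5, h6, h7⟩ := exists_image u
  have h8 : Surjective i.left := by
    have : Surjective (p.left ≫ i.left) := by rw [← Over.comp_left, h3]; infer_instance
    exact Surjective.of_comp p.left i.left
  have h9 : IsIso i := isIso_of_closed_surjective i
  have h10 : IsIso i.left := inferInstanceAs (IsIso ((Over.forget _).map i))
  rw [← h3, Over.comp_left]
  infer_instance

/-- A reduced group receiving a surjective homomorphism from an affine group is affine. -/
theorem isAffine_of_surjective {L C : Over (Spec (CommRingCat.of k))} [GrpObj L] [GrpObj C]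
    [IsAffine L.left] [LocallyOfFiniteType L.hom] [LocallyOfFiniteType C.hom] [IsReduced C.left]
    (p : L ⟶ C) [IsMonHom p] [Surjective p.left] : IsAffine C.left := by
  have hq : QuasiCompact L.hom := Sga3.H821.AffProper.quasiCompact_of_affine k L
  have hq' : QuasiCompact C.hom := quasiCompact_of_surjective p
  have hs : IsSeparated C.hom := Books.AntiAffine.isSeparated_hom C
  have := flat_of_surjective p
  exact Sga3.H821.AffProper.isAffine_of_flat_surjective k L C p

section AlgClosed

variable [IsAlgClosed k]

/-- The target of a flat surjective homomorphism from a smooth group is smooth. -/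
theorem smooth_of_flat_surjective {G H : Over (Spec (CommRingCat.of k))} [GrpObj H]
    [LocallyOfFiniteType H.hom] [Smooth G.hom] (u : G ⟶ H) [Flat u.left] [Surjective u.left] :
    Smooth H.hom := by
  have h1 : IsReduced G.left := Books.AlgPtsSmooth.isReduced_of_smooth G
  have h2 : IsReduced H.left := FlatB.GeomRed.isReduced_of_flat_of_surjective u.left
  exact Books.AlgPtsSmooth.smooth_of_isReduced H

/-- A surjective morphism of schemes of finite type is surjective on rational points. -/
theorem exists_lift {X Y : Over (Spec (CommRingCat.of k))} [LocallyOfFiniteType X.hom]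
    [LocallyOfFiniteType Y.hom] (f : X ⟶ Y) [Surjective f.left]
    (y : 𝟙_ (Over (Spec (CommRingCat.of k))) ⟶ Y) :
    ∃ x : 𝟙_ (Over (Spec (CommRingCat.of k))) ⟶ X, x ≫ f = y :=
  Agf.H623.SchSurj.exists_lift_of_surjective f y

theorem surjective_of_forall_pt {X Y : Over (Spec (CommRingCat.of k))}
    [LocallyOfFiniteType X.hom] [LocallyOfFiniteType Y.hom] [QuasiCompact X.hom] [QuasiCompact Y.hom]
    (f : X ⟶ Y) (h : ∀ y : 𝟙_ (Over (Spec (CommRingCat.of k))) ⟶ Y,
      ∃ x : 𝟙_ (Over (Spec (CommRingCat.of k))) ⟶ X, x ≫ f = y) : Surjective f.left := by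
  have h1 : CompactSpace Y.left := (quasiCompact_iff_compactSpace Y.hom).1 inferInstance
  have h2 := quasiCompact_left f
  exact Agf.H623.SchSurj.surjective_of_forall_pt f h

/-- A smooth group whose only rational point is the unit is trivial. -/
theorem isIso_hom_of_points {N : Over (Spec (CommRingCat.of k))} [GrpObj N] [Smooth N.hom]
    (h : ∀ x : 𝟙_ (Over (Spec (CommRingCat.of k))) ⟶ N, x = 1) : IsIso N.hom := by
  have hs : IsSeparated N.hom := Books.AntiAffine.isSeparated_hom N
  exact Sga3B.RG.BrPts.isTrivialGrp_of_points N h

/-- A smooth connected group which is affine and proper is trivial. -/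
theorem isIso_hom_of_affine_proper {C : Over (Spec (CommRingCat.of k))} [GrpObj C] [Smooth C.hom]
    [IsAffine C.left] [IsProper C.hom] [ConnectedSpace C.left] : IsIso C.hom := by
  apply isIso_hom_of_points
  intro x
  have h := Sga3.H821.AffProper.range_one_eq_univ k C
  have h1 : pt x = pt (1 : 𝟙_ (Over (Spec (CommRingCat.of k))) ⟶ C) := by
    obtain ⟨a, ha⟩ := h.ge (Set.mem_univ (pt x))
    obtain ⟨b, hb⟩ := h.ge (Set.mem_univ (pt (1 : 𝟙_ (Over (Spec (CommRingCat.of k))) ⟶ C)))
    rw [← ha, ← hb]
    congr 1
    exact Subsingleton.elim (α := Spec (CommRingCat.of k)) a b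
  exact pt_injective h1

end AlgClosed

/-- An affine anti-affine scheme is the base. -/
theorem isIso_hom_of_affine_antiAffine {C : Over (Spec (CommRingCat.of k))} [IsAffine C.left]
    (h : IsIso C.hom.appTop) : IsIso C.hom := by
  have h0 : (MorphismProperty.isomorphisms Scheme) C.hom := by
    rw [HasAffineProperty.iff_of_isAffine (P := MorphismProperty.isomorphisms Scheme)]
    exact ⟨inferInstance, h⟩
  exact h0

/-- The kernel of a homomorphism to a trivial group is everything. -/
theorem isIso_of_isKernel {N G Q : Over (Spec (CommRingCat.of k))} [GrpObj Q] (i : N ⟶ G) (q : G ⟶ Q)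
    (hk : AlgGrp.IsKernel i q) (hQ : IsIso Q.hom) : IsIso i := by
  have h1 : IsIso (toUnit Q) := by
    have : IsIso (toUnit Q).left := by
      have h2 : (toUnit Q).left = Q.hom := by simp
      rw [h2]; exact hQ
    have : IsIso ((Over.forget _).map (toUnit Q)) := this
    exact isIso_of_reflects_iso _ (Over.forget _)
  have h2 : IsIso η[Q] := by
    have h3 : η[Q] ≫ toUnit Q = 𝟙 _ := toUnit_unique _ _
    exact IsIso.of_isIso_fac_right h3
  have h3 : IsPullback i (toUnit N) q η[Q] := hk
  exact h3.isIso_fst_of_isIso

/-- A homomorphism whose target is the trivial group is `1`. -/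
theorem eq_of_isIso_hom {T Q : Over (Spec (CommRingCat.of k))} (hQ : IsIso Q.hom) (f g : T ⟶ Q) : f = g := by
  have h1 : IsIso (toUnit Q) := by
    have : IsIso (toUnit Q).left := by
      have h2 : (toUnit Q).left = Q.hom := by simp
      rw [h2]; exact hQ
    have : IsIso ((Over.forget _).map (toUnit Q)) := this
    exact isIso_of_reflects_iso _ (Over.forget _)
  rw [← cancel_mono (toUnit Q)]
  exact toUnit_unique _ _

/-- Anti-affineness passes to flat quasi-compact surjective images. -/
theorem isIso_appTop_of_epi {G X : Over (Spec (CommRingCat.of k))} [IsIso G.hom.appTop]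
    (f : G ⟶ X) [Epi f.left] : IsIso X.hom.appTop := by
  have h11 := Groth.Agent.S3026.appTop_injective f.left
  have h12 : G.hom.appTop = X.hom.appTop ≫ f.left.appTop := by
    rw [← Scheme.Hom.comp_appTop, Over.w]
  have h13 : Function.Bijective X.hom.appTop.hom := by
    have hb : Function.Bijective G.hom.appTop.hom := ConcreteCategory.bijective_of_isIso _
    rw [h12] at hb
    have hb' : Function.Bijective (f.left.appTop.hom ∘ X.hom.appTop.hom) := hb
    refine ⟨hb'.1.of_comp, fun y => ?_⟩
    obtain ⟨x, hx⟩ := hb'.2 (f.left.appTop.hom y)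
    exact ⟨x, h11 hx⟩
  exact (ConcreteCategory.isIso_iff_bijective _).mpr h13

/-- Anti-affineness passes to quotients. -/
theorem isIso_appTop_of_flat_surjective {G X : Over (Spec (CommRingCat.of k))} [IsIso G.hom.appTop]
    [QuasiCompact G.hom] [LocallyOfFiniteType X.hom]
    (f : G ⟶ X) [Flat f.left] [Surjective f.left] : IsIso X.hom.appTop := by
  have := quasiCompact_left f
  have : Epi f.left := inferInstance
  exact isIso_appTop_of_epi f

end K398.Pts
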