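import Groth.Agent.AlgGrp.K398.Affin
import Groth.Agent.AlgGrp.K398.Pts
import Groth.Agent.AlgGrp.K401.RigidAA
import Groth.Prelude.Def_AlgGrp

/-!
# Affineness criterion through the anti-affine kernel; actions of anti-affine groups with a fixed point
-/

set_option autoImplicit false
universe u
open CategoryTheory MonoidalCategory CartesianMonoidalCategory MonObj AlgebraicGeometry
  CategoryTheory.Limits

namespace K398.AffCrit

open K398.Affin

variable {k : Type u} [Field k]

/-- If the anti-affine part has no rational point other than the unit then the group is affine. -/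
theorem isAffine_of_points [IsAlgClosed k] {N G Q : Over (Spec (CommRingCat.of k))} [GrpObj N] [GrpObj G]
    [GrpObj Q] {n : N ⟶ G} {q : G ⟶ Q} (hnq : IsAffSeq n q)
    (h : ∀ x : 𝟙_ (Over (Spec (CommRingCat.of k))) ⟶ N, x = 1) : IsAffine G.left := by
  have h1 := hnq.homN
  have h2 := hnq.homQ
  have h3 := hnq.affine
  have h4 := hnq.ftQ
  have h5 := hnq.surj
  have h6 := hnq.flat
  have h6' := hnq.qc
  have h7 := hnq.smooth
  have h8 := hnq.anti
  have h9 : Mono n := hnq.mono
  have h10 : IsIso N.hom := Pts.isIso_hom_of_points h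
  have h11 : ∀ {T : Over (Spec (CommRingCat.of k))} (x : T ⟶ N), x ≫ n = 1 := by
    intro T x
    rw [Pts.eq_of_isIso_hom h10 x 1, MonObj.one_comp]
  have h12 : Mono q := by
    constructor
    intro T x y hxy
    have h13 : (x * y⁻¹) ≫ q = 1 := by
      rw [MonObj.mul_comp, GrpObj.inv_comp, hxy, mul_inv_cancel]
    have hk : IsPullback n (toUnit N) q η[Q] := hnq.ker
    have hz := hk.lift_fst (x * y⁻¹) (toUnit T) (by rw [h13, Hom.one_def])
    rw [h11] at hz
    exact (mul_inv_eq_one.1 hz.symm)
  have h13 : Mono q.left := inferInstanceAs (Mono ((Over.forget _).map q))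
  have h14 : IsIso q.left := Flat.isIso_of_surjective_of_mono q.left
  exact IsAffine.of_isIso q.left

theorem unit_act {G X : Over (Spec (CommRingCat.of k))} [GrpObj G] (a : AlgGrp.Action G X) :
    lift (toUnit X ≫ η[G]) (𝟙 X) ≫ a.act = 𝟙 X := by
  have h8 : lift (toUnit X ≫ η[G]) (𝟙 X) = (λ_ X).inv ≫ (η[G] ▷ X) := by
    ext1
    · simp only [lift_fst, Category.assoc, whiskerRight_fst]
      rw [← Category.assoc]
      congr 1
      exact toUnit_unique _ _
    · simp
  rw [h8, Category.assoc, a.one_act, Iso.inv_hom_id]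

/-- An anti-affine group acting on a variety with a fixed point acts trivially (any field). -/
theorem act_eq_snd {G X : Over (Spec (CommRingCat.of k))} [GrpObj G] [QuasiCompact G.hom] [IsSeparated G.hom]
    [IsIso G.hom.appTop] [IsLocallyNoetherian X.left] [IsIntegral X.left] [IsSeparated X.hom]
    (a : AlgGrp.Action G X) (x : 𝟙_ (Over (Spec (CommRingCat.of k))) ⟶ X) (hx : a.IsFixedPt x) :
    a.act = snd G X := by
  have h2 : (G ◁ x) ≫ a.act = toUnit _ ≫ lift η[G] x ≫ a.act := by
    have h3 : G ◁ x = lift (fst G (𝟙_ _)) (toUnit _ ≫ x) := by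
      ext1
      · simp
      · rw [whiskerLeft_snd, lift_snd]
        congr 1
        exact toUnit_unique _ _
    rw [h3, hx]
    have h4 := hx _ η[G]
    have h5 : lift η[G] x = lift η[G] (toUnit _ ≫ x) := by
      have : toUnit (𝟙_ (Over (Spec (CommRingCat.of k)))) = 𝟙 _ := toUnit_unique _ _
      rw [this, Category.id_comp]
    rw [h5, h4, ← Category.assoc]
    congr 1
  have h7 : CompactSpace G.left := QuasiCompact.compactSpace_of_compactSpace G.hom
  have h8 : QuasiSeparatedSpace G.left := quasiSeparatedSpace_of_quasiSeparated G.hom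
  have h6 : a.act = snd G X ≫ lift (toUnit X ≫ η[G]) (𝟙 X) ≫ a.act :=
    K401.RigidAA.rigid η[G] x a.act (lift η[G] x ≫ a.act) h2
  rw [h6, unit_act, Category.comp_id]

/-- The action restricted along a homomorphism. -/
noncomputable def res {G N X : Over (Spec (CommRingCat.of k))} [GrpObj G] [GrpObj N] (i : N ⟶ G) [IsMonHom i]
    (a : AlgGrp.Action G X) : AlgGrp.Action N X where
  act := (i ▷ X) ≫ a.act
  one_act := by
    rw [← Category.assoc, ← comp_whiskerRight, IsMonHom.one_hom, a.one_act]
  mul_act := by
    rw [← Category.assoc, ← comp_whiskerRight, IsMonHom.mul_hom, comp_whiskerRight, Category.assoc, a.mul_act]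
    have h : (i ⊗ₘ i) ▷ X ≫ (α_ G G X).hom ≫ G ◁ a.act =
        (α_ N N X).hom ≫ N ◁ (i ▷ X ≫ a.act) ≫ i ▷ X := by
      ext1
      · simp
      · simp only [Category.assoc, whiskerLeft_snd, whiskerRight_snd]
        simp only [← Category.assoc]
        congr 1
        ext1
        · simp
        · simp
    have h' := congrArg (fun q => q ≫ a.act) h
    simp only [Category.assoc] at h'
    exact h'

/-- On points, the restricted action. -/
theorem lift_res {G N X T : Over (Spec (CommRingCat.of k))} [GrpObj G] [GrpObj N] (i : N ⟶ G) [IsMonHom i]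
    (a : AlgGrp.Action G X) (t : T ⟶ N) (x : T ⟶ X) : lift t x ≫ (res i a).act = lift (t ≫ i) x ≫ a.act := by
  change lift t x ≫ (i ▷ X) ≫ a.act = _
  rw [← Category.assoc]
  congr 1
  ext1 <;> simp

end K398.AffCrit
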