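import Groth.Agent.Sga3.H794.ChevClosed
import Groth.Agent.Sga3.H821.AffProper

/-!
# The largest connected affine normal subgroup is the kernel of a homomorphism onto an abelian variety
-/

set_option autoImplicit false
universe u
open CategoryTheory MonoidalCategory CartesianMonoidalCategory MonObj GrpObj AlgebraicGeometry
  CategoryTheory.Limits

namespace K398.AffMax

open Groth.Agent

/-- Over an algebraically closed field, `G` smooth connected: the largest smooth connected affine normal
subgroup `i : N ⟶ G` is the kernel of a flat surjective homomorphism onto an abelian variety. -/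
theorem exists_proper_quotient (k : Type u) [Field k] [IsAlgClosed k]
    (G : Over (Spec (CommRingCat.of k))) [GrpObj G] [Smooth G.hom] [QuasiCompact G.hom] [ConnectedSpace ↥G.left]
    (N : Over (Spec (CommRingCat.of k))) [GrpObj N] (i : N ⟶ G) [IsMonHom i] [IsClosedImmersion i.left]
    [Smooth N.hom] [ConnectedSpace ↥N.left] [IsAffine N.left]
    (hNmax : ∀ (N' : Over (Spec (CommRingCat.of k))) [GrpObj N'] (i' : N' ⟶ G) [IsMonHom i'] [IsClosedImmersion i'.left]
      [Smooth N'.hom] [ConnectedSpace ↥N'.left] [IsAffine N'.left], AlgGrp.IsNormalHom i' → ∃ f : N' ⟶ N, f ≫ i = i') :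
    ∃ (A : Over (Spec (CommRingCat.of k))) (_ : GrpObj A) (α : G ⟶ A), IsMonHom α ∧ Surjective α.left ∧
      Flat α.left ∧ AlgGrp.IsKernel i α ∧ IsProper A.hom ∧ Smooth A.hom ∧ ConnectedSpace ↥A.left := by
  obtain ⟨L, _, l, Q, _, q, h1, h2, h3, h4, h5, h6, h7, h8, h9, h10, h11, h12, h13⟩ :=
    Sga3.H794.ChevClosed.exists_chevalley k G
  obtain ⟨a, ha⟩ := hNmax L l h6
  obtain ⟨b, hb⟩ := Sga3.H821.AffProper.exists_factor_kernel k i l q h10
  have hm1 : Mono i := Books.AlgPtsGrp.mono_of_isClosedImmersion i
  have hm2 : Mono l := Books.AlgPtsGrp.mono_of_isClosedImmersion l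
  let e : N ≅ L := ⟨b, a, by rw [← cancel_mono i, Category.assoc, ha, hb, Category.id_comp],
    by rw [← cancel_mono l, Category.assoc, hb, ha, Category.id_comp]⟩
  refine ⟨Q, inferInstance, q, h7, h8, h9, ?_, h11, h12, h13⟩
  have h : IsPullback l (toUnit L) q η[Q] := h10
  exact IsPullback.of_iso h e.symm (Iso.refl _) (Iso.refl _) (Iso.refl _) (by simpa [e] using ha.symm)
    (toUnit_unique _ _) (by simp) (by simp)

end K398.AffMax
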