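import Groth.Prelude.Def_VecGrp
import Groth.Agent.Sga3B.AffYoneda

/-!
# Morphisms of schemes from natural families on affine points

`X`, `Y` schemes over an affine base `Spec R`: a family of maps `X(B) → Y(B)`, natural in the `R`-algebra `B`, comes from a
unique morphism `X ⟶ Y`.
-/

set_option autoImplicit false
universe u
open CategoryTheory MonoidalCategory CartesianMonoidalCategory MonObj AlgebraicGeometry
  CategoryTheory.Limits VecGrp

namespace K398.AffYon

variable {R : Type u} [CommRing R]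

/-- Every morphism between spectra over `R` comes from an algebra homomorphism. -/
theorem exists_ptMap {B B' : Type u} [CommRing B] [Algebra R B] [CommRing B'] [Algebra R B']
    (h : pt R B' ⟶ pt R B) : ∃ φ : B →ₐ[R] B', ptMap φ = h := by
  let h' : Spec (CommRingCat.of B') ⟶ Spec (CommRingCat.of B) := h.left
  let ψ : CommRingCat.of B ⟶ CommRingCat.of B' := Spec.preimage h'
  have hψ : Spec.map ψ = h' := Spec.map_preimage h'
  have hw : h' ≫ Spec.map (CommRingCat.ofHom (algebraMap R B)) =
      Spec.map (CommRingCat.ofHom (algebraMap R B')) := Over.w h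
  have h1 : CommRingCat.ofHom (algebraMap R B) ≫ ψ = CommRingCat.ofHom (algebraMap R B') := by
    apply Spec.map_injective
    rw [Spec.map_comp, hψ, hw]
  refine ⟨{ ψ.hom with commutes' := fun r => congrArg (fun q => q.hom r) h1 }, ?_⟩
  ext1
  exact hψ

/-- A family of maps on affine points, natural in the algebra. -/
structure NatFam (X Y : Over (Spec (CommRingCat.of R))) where
  τ : ∀ (B : Type u) [CommRing B] [Algebra R B], (pt R B ⟶ X) → (pt R B ⟶ Y)
  nat : ∀ {B B' : Type u} [CommRing B] [Algebra R B] [CommRing B'] [Algebra R B'] (φ : B →ₐ[R] B')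
    (g : pt R B ⟶ X), ptMap φ ≫ τ B g = τ B' (ptMap φ ≫ g)

section

variable {X Y : Over (Spec (CommRingCat.of R))}

theorem NatFam.nat' (F : NatFam X Y) {B B' : Type u} [CommRing B] [Algebra R B] [CommRing B'] [Algebra R B']
    (h : pt R B' ⟶ pt R B) (g : pt R B ⟶ X) : h ≫ F.τ B g = F.τ B' (h ≫ g) := by
  obtain ⟨φ, rfl⟩ := exists_ptMap h
  exact F.nat φ g

/-- The algebra structure determined by a structure morphism. -/
noncomputable abbrev algOf (B : CommRingCat.{u}) (s : Spec B ⟶ Spec (CommRingCat.of R)) : Algebra R B :=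
  (Spec.preimage s).hom.toAlgebra

theorem pt_eq (B : CommRingCat.{u}) (s : Spec B ⟶ Spec (CommRingCat.of R)) :
    @pt R _ B _ (algOf B s) = Over.mk s := by
  change Over.mk (Spec.map (Spec.preimage s)) = Over.mk s
  rw [Spec.map_preimage]

/-- The isomorphism of a spectrum with the affine test object. -/
noncomputable def isoOf (B : CommRingCat.{u}) (s : Spec B ⟶ Spec (CommRingCat.of R)) :
    @pt R _ B _ (algOf B s) ≅ Over.mk s := eqToIso (pt_eq B s)

theorem ev_eq (F : NatFam X Y) (C : CommRingCat.{u}) (s : Spec C ⟶ Spec (CommRingCat.of R)) (B : Type u) [CommRing B]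
    [Algebra R B] (e : pt R B ⟶ Over.mk s) (g : Over.mk s ⟶ X) :
    e ≫ (isoOf C s).inv ≫ @NatFam.τ R _ X Y F C _ (algOf C s) ((isoOf C s).hom ≫ g) = F.τ B (e ≫ g) := by
  have h2 := @NatFam.nat' R _ X Y F C B _ (algOf C s) _ _ (e ≫ (isoOf C s).inv) ((isoOf C s).hom ≫ g)
  rw [Category.assoc] at h2
  refine h2.trans ?_
  congr 1
  simp only [Category.assoc, Iso.inv_hom_id_assoc]

/-- **A natural family on affine points comes from a morphism.** -/
theorem exists_hom (F : NatFam X Y) : ∃ γ : X ⟶ Y, ∀ (B : Type u) [CommRing B] [Algebra R B]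
    (g : pt R B ⟶ X), g ≫ γ = F.τ B g := by
  obtain ⟨γ, hγ, -⟩ := Groth.Agent.Sga3B.AffYoneda.existsUnique_hom
    (G := X) (G' := Y) (fun B s g => (isoOf B s).inv ≫ @NatFam.τ R _ X Y F B _ (algOf B s) ((isoOf B s).hom ≫ g))
    (by
      intro B B' s s' h g
      have h1 := @NatFam.nat' R _ X Y F B B' _ (algOf B s) _ (algOf B' s')
        ((isoOf B' s').hom ≫ h ≫ (isoOf B s).inv) ((isoOf B s).hom ≫ g)
      have h2 : ((isoOf B' s').hom ≫ h ≫ (isoOf B s).inv) ≫ (isoOf B s).hom ≫ g =
          (isoOf B' s').hom ≫ h ≫ g := by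
        simp only [Category.assoc, Iso.inv_hom_id_assoc]
      rw [h2] at h1
      rw [← h1]
      simp only [Category.assoc, Iso.inv_hom_id_assoc])
  refine ⟨γ, fun B _ i0 g => ?_⟩
  let s : Spec (CommRingCat.of B) ⟶ Spec (CommRingCat.of R) := Spec.map (CommRingCat.ofHom (algebraMap R B))
  let e : pt R B ⟶ Over.mk s := 𝟙 (pt R B)
  let g' : Over.mk s ⟶ X := g
  have h0 : e ≫ g' = g := Category.id_comp g
  have h1 := congrArg (fun q => e ≫ q) (hγ (CommRingCat.of B) s g')
  have h2 := ev_eq F (CommRingCat.of B) s B e g'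
  rw [h0] at h2
  rw [← h2]
  refine Eq.trans ?_ h1
  rw [← Category.assoc, h0]

/-- Morphisms agreeing on affine points are equal. -/
theorem hom_ext {f g : X ⟶ Y} (h : ∀ (B : Type u) [CommRing B] [Algebra R B] (t : pt R B ⟶ X),
    t ≫ f = t ≫ g) : f = g := by
  apply Groth.Agent.Sga3B.AffYoneda.hom_ext
  intro B s t
  have h1 := @h B _ (algOf B s) ((isoOf B s).hom ≫ t)
  rw [Category.assoc, Category.assoc] at h1
  exact (cancel_epi (isoOf B s).hom).1 h1

end

end K398.AffYon
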