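import Groth.Agent.AlgGrp.K398.AntiAff
import Groth.Agent.Sga3.H787.HullKer
import Groth.Agent.Sga3.H786.HullFG
import Groth.Agent.Sga3C.AffinizationGrp
import Groth.Agent.Sga3.H794.ChevKer
import Groth.Agent.S3026
import Groth.Agent.S3293

/-!
# The affinization theorem

For a group scheme `G` of finite type over a field there is an exact sequence `1 → N → G → Q → 1` with `Q` affine of finite
type (`Q = Spec Γ(G)`) and `N` anti-affine (smooth, connected, commutative), the largest anti-affine subgroup;
every morphism from `G` to an affine scheme factors uniquely through `Q`.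
-/

set_option autoImplicit false
universe u
open CategoryTheory MonoidalCategory CartesianMonoidalCategory MonObj AlgebraicGeometry
  CategoryTheory.Limits

namespace K398.Affin

open Groth.Agent Groth.Agent.Sga3C.Affinization

variable {k : Type u} [Field k]

/-- The affinization sequence `1 → N → G → Q → 1`. -/
structure IsAffSeq {N G Q : Over (Spec (CommRingCat.of k))} [GrpObj N] [GrpObj G] [GrpObj Q]
    (n : N ⟶ G) (q : G ⟶ Q) : Prop where
  homN : IsMonHom n
  homQ : IsMonHom q
  affz : IsAffinization q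
  affine : IsAffine Q.left
  ftQ : LocallyOfFiniteType Q.hom
  surj : Surjective q.left
  flat : Flat q.left
  qc : QuasiCompact q.left
  ker : AlgGrp.IsKernel n q
  closed : IsClosedImmersion n.left
  normal : AlgGrp.IsNormalHom n
  anti : IsIso N.hom.appTop
  smooth : Smooth N.hom
  qcN : QuasiCompact N.hom
  conn : ConnectedSpace N.left
  comm : IsCommMonObj N

/-- **Affinization theorem**: the sequence exists. -/
theorem exists_affSeq (G : Over (Spec (CommRingCat.of k))) [GrpObj G] [LocallyOfFiniteType G.hom]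
    [QuasiCompact G.hom] : ∃ (N Q : Over (Spec (CommRingCat.of k))) (_ : GrpObj N) (_ : GrpObj Q)
      (n : N ⟶ G) (q : G ⟶ Q), IsAffSeq n q := by
  have h1 : CompactSpace G.left := QuasiCompact.compactSpace_of_compactSpace G.hom
  have h2 : IsLocallyNoetherian G.left := LocallyOfFiniteType.isLocallyNoetherian G.hom
  have ha := isAffinization_toAff G
  obtain ⟨_, h3⟩ := Groth.Agent.Sga3C.AffinizationGrp.exists_grpObj ha
  have haff : IsAffine (affOver G).left := ha.isAffine
  obtain ⟨_, h7⟩ := Sga3B.KerGrp.exists_grpObj (toAff G)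
  obtain ⟨hs, hf, hft⟩ := Groth.Agent.Sga3.H786.HullFG.main k G
  have hftQ : LocallyOfFiniteType (affOver G).hom := by
    have h : (affOver G).hom = Spec.map G.hom.appTop ≫ (Spec (CommRingCat.of k)).isoSpec.inv := by
      dsimp [affOver]
      rw [Spec.map_comp]
      congr 1
      rw [← cancel_mono (Spec (CommRingCat.of k)).isoSpec.hom, Iso.inv_hom_id]
      simp
    rw [h]
    exact hft
  have h8 : QuasiCompact ((toAff G).left ≫ (affOver G).hom) := by rw [Over.w]; infer_instance
  have h9 : LocallyOfFiniteType ((toAff G).left ≫ (affOver G).hom) := by rw [Over.w]; infer_instance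
  have h10 : QuasiCompact (toAff G).left := QuasiCompact.of_comp (toAff G).left (affOver G).hom
  have h11 : LocallyOfFiniteType (toAff G).left := locallyOfFiniteType_of_comp (toAff G).left (affOver G).hom
  have h12 : QuasiCompact (Sga3B.KerGrp.kerObj (toAff G)).hom :=
    inferInstanceAs (QuasiCompact (pullback.snd (toAff G).left (η[affOver G] : 𝟙_ _ ⟶ affOver G).left))
  have h13 : LocallyOfFiniteType (Sga3B.KerGrp.kerObj (toAff G)).hom :=
    inferInstanceAs (LocallyOfFiniteType (pullback.snd (toAff G).left (η[affOver G] : 𝟙_ _ ⟶ affOver G).left))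
  have h14 := Groth.Agent.Sga3.H787.HullKer.isIso_appTop_ker (toAff G) ha
  have hO := K398.AntiAff.bijective_of_isIso h14
  have h15 := Groth.Agent.S3026.result k (Sga3B.KerGrp.kerObj (toAff G)) hO
  have h16 := Groth.Agent.S3293.result k (Sga3B.KerGrp.kerObj (toAff G)) hO
  exact ⟨Sga3B.KerGrp.kerObj (toAff G), affOver G, inferInstance, inferInstance,
    Sga3B.KerGrp.kerι (toAff G), toAff G, ⟨h7, h3, ha, haff, hftQ, hs, hf, h10,
      Sga3B.KerGrp.isPullback_ker (toAff G), inferInstance,
      Sga3.H794.ChevKer.isNormalHom_ker _ _ (Sga3B.KerGrp.isPullback_ker (toAff G)), h14, h15, h12,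
      h16.1, h16.2⟩⟩

section

variable {N G Q : Over (Spec (CommRingCat.of k))} [GrpObj N] [GrpObj G] [GrpObj Q] {n : N ⟶ G} {q : G ⟶ Q}

/-- Every morphism from `G` to an affine scheme factors through `q`. -/
theorem IsAffSeq.exists_fac (h : IsAffSeq n q) {Z : Over (Spec (CommRingCat.of k))} [IsAffine Z.left]
    (f : G ⟶ Z) : ∃ g : Q ⟶ Z, q ≫ g = f := h.affz.exists_fac f

theorem IsAffSeq.hom_ext (h : IsAffSeq n q) {Z : Over (Spec (CommRingCat.of k))} [IsAffine Z.left]
    {f g : Q ⟶ Z} (e : q ≫ f = q ≫ g) : f = g := h.affz.hom_ext e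

/-- A homomorphism from an anti-affine group to an affine group is trivial. -/
theorem hom_eq_one {M Z : Over (Spec (CommRingCat.of k))} [GrpObj M] [GrpObj Z] [IsIso M.hom.appTop]
    [IsAffine Z.left] (f : M ⟶ Z) [IsMonHom f] : f = 1 := by
  rw [K398.AntiAff.eq_const η[M] f, IsMonHom.one_hom]
  rfl

/-- A morphism from an anti-affine pointed scheme into `G` sending the base point to `1` factors through `N`. -/
theorem IsAffSeq.exists_lift_of_pointed (h : IsAffSeq n q) {M : Over (Spec (CommRingCat.of k))}
    [IsIso M.hom.appTop] (s : 𝟙_ (Over (Spec (CommRingCat.of k))) ⟶ M) (f : M ⟶ G) (hs : s ≫ f = η[G]) :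
    ∃ g : M ⟶ N, g ≫ n = f := by
  have := h.affine
  have := h.homQ
  have h1 : f ≫ q = toUnit M ≫ η[Q] := by
    rw [K398.AntiAff.eq_const s (f ≫ q), ← Category.assoc s, hs, IsMonHom.one_hom]
  exact ⟨h.ker.lift f (toUnit M) h1, h.ker.lift_fst _ _ _⟩

/-- `N` is the largest anti-affine subgroup: every homomorphism from an anti-affine group factors
through `N`. -/
theorem IsAffSeq.exists_lift (h : IsAffSeq n q) {M : Over (Spec (CommRingCat.of k))} [GrpObj M]
    [IsIso M.hom.appTop] (f : M ⟶ G) [IsMonHom f] : ∃ g : M ⟶ N, g ≫ n = f :=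
  h.exists_lift_of_pointed η[M] f (IsMonHom.one_hom f)

theorem IsAffSeq.mono (h : IsAffSeq n q) : Mono n := by
  have := h.closed
  exact Books.AlgPtsGrp.mono_of_isClosedImmersion n

/-- `N` is contained in the kernel of every homomorphism to an affine group. -/
theorem IsAffSeq.comp_eq_one (h : IsAffSeq n q) {Z : Over (Spec (CommRingCat.of k))} [GrpObj Z]
    [IsAffine Z.left] (f : G ⟶ Z) [IsMonHom f] : n ≫ f = 1 := by
  have := h.homN
  have := h.anti
  exact hom_eq_one (n ≫ f)

/-- Another affinization sequence, or any closed anti-affine subgroup containing all anti-affine subgroups, is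
the same. -/
theorem IsAffSeq.exists_iso (h : IsAffSeq n q) {M : Over (Spec (CommRingCat.of k))} [GrpObj M]
    [IsIso M.hom.appTop] (j : M ⟶ G) [IsMonHom j] [Mono j]
    (hmax : ∃ f : N ⟶ M, f ≫ j = n) : ∃ e : M ≅ N, e.hom ≫ n = j := by
  have := h.mono
  obtain ⟨a, ha⟩ := hmax
  obtain ⟨b, hb⟩ := h.exists_lift j
  refine ⟨⟨b, a, ?_, ?_⟩, hb⟩
  · rw [← cancel_mono j, Category.assoc, ha, hb, Category.id_comp]
  · rw [← cancel_mono n, Category.assoc, hb, ha, Category.id_comp]

end

end K398.Affin
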