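import Groth.Agent.Sga3.H780.PointedProd
import Groth.Agent.Books.AntiAffine
import Groth.Agent.Etcore.SmoothRed

/-!
# Pointed morphisms from a smooth connected group to an abelian variety are homomorphisms
-/

set_option autoImplicit false
universe u
open CategoryTheory MonoidalCategory CartesianMonoidalCategory MonObj GrpObj AlgebraicGeometry
  CategoryTheory.Limits

namespace K398.AlbHom

open Groth.Agent

variable {k : Type u} [Field k]

/-- Over an algebraically closed field, a morphism from a smooth connected group to a proper group preserving the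
unit is a homomorphism. -/
theorem isMonHom_of_pointed [IsAlgClosed k] {G B : Over (Spec (CommRingCat.of k))} [GrpObj G] [GrpObj B]
    [Smooth G.hom] [ConnectedSpace G.left] [QuasiCompact G.hom] [IsProper B.hom] (f : G ⟶ B)
    (hf : η[G] ≫ f = η[B]) : IsMonHom f := by
  have hred : IsReduced G.left := Etcore.SmoothRed.isReduced_of_smooth G.hom
  have hirr : IrreducibleSpace G.left := Books.AntiAffine.irreducibleSpace_left G
  have hint : IsIntegral G.left := isIntegral_of_irreducibleSpace_of_isReduced _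
  let ψ : G ⊗ G ⟶ B := (μ[G] ≫ f) * ((fst G G ≫ f) * (snd G G ≫ f))⁻¹
  have hc : ∀ {T : Over (Spec (CommRingCat.of k))} (x y : T ⟶ G),
      lift x y ≫ ψ = ((x * y) ≫ f) * ((x ≫ f) * (y ≫ f))⁻¹ := by
    intro T x y
    change lift x y ≫ ((μ[G] ≫ f) * ((fst G G ≫ f) * (snd G G ≫ f))⁻¹) = _
    rw [MonObj.comp_mul, GrpObj.comp_inv, MonObj.comp_mul, ← Category.assoc, ← Category.assoc,
      ← Category.assoc, lift_fst, lift_snd]
    rfl
  have hu : ∀ {T : Over (Spec (CommRingCat.of k))}, (toUnit T ≫ η[G]) ≫ f = 1 := by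
    intro T
    rw [Category.assoc, hf]
    rfl
  have hu' : ∀ {T : Over (Spec (CommRingCat.of k))}, (toUnit T ≫ η[G] : T ⟶ G) = 1 := rfl
  have h1 : lift (toUnit G ≫ η[G]) (𝟙 G) ≫ ψ = toUnit G ≫ η[B] := by
    rw [hc, hu, hu', _root_.one_mul, _root_.one_mul, mul_inv_cancel]
    rfl
  have h2 : lift (𝟙 G) (toUnit G ≫ η[G]) ≫ ψ = toUnit G ≫ η[B] := by
    rw [hc, hu, hu', _root_.mul_one, _root_.mul_one, mul_inv_cancel]
    rfl
  have h3 := Sga3.H780.PointedProd.eq_const G G B ψ η[G] η[G] η[B] h1 h2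
  refine ⟨hf, ?_⟩
  have h4 := hc (fst G G) (snd G G)
  rw [h3] at h4
  have h5 : (fst G G * snd G G) ≫ f = (fst G G ≫ f) * (snd G G ≫ f) := by
    have h6 : ((fst G G * snd G G) ≫ f) * ((fst G G ≫ f) * (snd G G ≫ f))⁻¹ = 1 := by
      rw [← h4, ← Category.assoc, toUnit_unique (lift (fst G G) (snd G G) ≫ toUnit (G ⊗ G)) (toUnit _)]
      rfl
    exact mul_inv_eq_one.1 h6
  have h7 : (fst G G * snd G G : G ⊗ G ⟶ G) = μ[G] := by
    rw [Hom.mul_def, lift_fst_snd, Category.id_comp]
  rw [h7] at h5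
  rw [h5, Hom.mul_def]
  congr 1

end K398.AlbHom
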