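import Groth.Agent.AlgGrp.K398.AffYon
import Groth.Agent.AlgGrp.K398.AntiAff
import Mathlib.Algebra.Category.Grp.Basic
import Mathlib.RingTheory.TensorProduct.Free

/-!
# Rational modules of anti-affine groups are trivial
-/

set_option autoImplicit false
universe u v
open CategoryTheory MonoidalCategory CartesianMonoidalCategory MonObj AlgebraicGeometry
  CategoryTheory.Limits VecGrp
open scoped TensorProduct

namespace K398.AntiRep

section fn

variable {R : Type u} [CommRing R]

theorem ptMap_comp {B B' B'' : Type u} [CommRing B] [Algebra R B] [CommRing B'] [Algebra R B'] [CommRing B'']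
    [Algebra R B''] (ψ : B' →ₐ[R] B'') (φ : B →ₐ[R] B') : ptMap ψ ≫ ptMap φ = ptMap (ψ.comp φ) := by
  ext1
  change Spec.map (CommRingCat.ofHom ψ.toRingHom) ≫ Spec.map (CommRingCat.ofHom φ.toRingHom) =
    Spec.map (CommRingCat.ofHom (ψ.comp φ).toRingHom)
  rw [← Spec.map_comp]
  rfl

theorem ptMap_injective {B B' : Type u} [CommRing B] [Algebra R B] [CommRing B'] [Algebra R B'] :
    Function.Injective (ptMap : (B →ₐ[R] B') → (pt R B' ⟶ pt R B)) := by
  intro φ ψ h
  have h1 : Spec.map (CommRingCat.ofHom φ.toRingHom) = Spec.map (CommRingCat.ofHom ψ.toRingHom) :=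
    congrArg (fun q => q.left) h
  have h2 := Spec.map_injective h1
  ext b
  exact congrArg (fun q => q.hom b) h2

end fn

variable {k : Type u} [Field k] {G : Over (Spec (CommRingCat.of k))}

instance isAffine_pt (B : Type u) [CommRing B] [Algebra k B] : IsAffine (pt k B).left :=
  inferInstanceAs (IsAffine (Spec (CommRingCat.of B)))

/-- A natural family of functions on an anti-affine pointed scheme is constant. -/
theorem fun_const [IsIso G.hom.appTop] (s : 𝟙_ (Over (Spec (CommRingCat.of k))) ⟶ G)
    (c : ∀ (B : Type u) [CommRing B] [Algebra k B], (pt k B ⟶ G) → B)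
    (hc : ∀ {B B' : Type u} [CommRing B] [Algebra k B] [CommRing B'] [Algebra k B'] (φ : B →ₐ[k] B')
      (g : pt k B ⟶ G), φ (c B g) = c B' (ptMap φ ≫ g))
    (B : Type u) [CommRing B] [Algebra k B] (g : pt k B ⟶ G) : c B g = c B (toUnit _ ≫ s) := by
  let F : AffYon.NatFam G (pt k (Polynomial k)) :=
    { τ := fun B _ _ g => ptMap (Polynomial.aeval (c B g))
      nat := by
        intro B B' _ _ _ _ φ g
        rw [ptMap_comp]
        congr 1
        ext
        rw [AlgHom.comp_apply, Polynomial.aeval_X, Polynomial.aeval_X, hc] }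
  obtain ⟨γ, hγ⟩ := AffYon.exists_hom F
  have h1 : γ = toUnit G ≫ s ≫ γ := AntiAff.eq_const s γ
  have h2 : ptMap (Polynomial.aeval (R := k) (c B g)) = ptMap (Polynomial.aeval (c B (toUnit _ ≫ s))) := by
    refine (hγ B g).symm.trans ?_
    refine Eq.trans ?_ (hγ B (toUnit _ ≫ s))
    calc g ≫ γ = g ≫ toUnit G ≫ s ≫ γ := congrArg (fun q => g ≫ q) h1
      _ = (g ≫ toUnit G) ≫ s ≫ γ := (Category.assoc _ _ _).symm
      _ = toUnit _ ≫ s ≫ γ := by rw [comp_toUnit]
      _ = (toUnit _ ≫ s) ≫ γ := (Category.assoc _ _ _).symm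
  have h3 := congrArg (fun φ => φ Polynomial.X) (ptMap_injective h2)
  simpa using h3

section lin

variable {M : Type v} [AddCommGroup M] [Module k M]

/-- The value of a base-changed linear form. -/
noncomputable def val (f : M →ₗ[k] k) (B : Type u) [CommRing B] [Algebra k B] : B ⊗[k] M →ₗ[B] B :=
  (TensorProduct.AlgebraTensorModule.rid k B B).toLinearMap ∘ₗ f.baseChange B

theorem val_tmul (f : M →ₗ[k] k) (B : Type u) [CommRing B] [Algebra k B] (b : B) (x : M) :
    val f B (b ⊗ₜ x) = f x • b := by
  rw [val, LinearMap.comp_apply, LinearMap.baseChange_tmul]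
  exact TensorProduct.AlgebraTensorModule.rid_tmul (R := k) (A := B) (f x) b

theorem val_Wmap (f : M →ₗ[k] k) {B B' : Type u} [CommRing B] [Algebra k B] [CommRing B'] [Algebra k B']
    (φ : B →ₐ[k] B') (x : B ⊗[k] M) : φ (val f B x) = val f B' (Wmap φ x) := by
  induction x using TensorProduct.induction_on with
  | zero => rw [map_zero, map_zero, map_zero, map_zero]
  | tmul b x => rw [Wmap_tmul, val_tmul, val_tmul, map_smul]
  | add x y hx hy => rw [map_add, map_add, hx, hy, map_add, map_add]

/-- Linear forms separate the elements of a base-changed vector space. -/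
theorem ext_val (B : Type u) [CommRing B] [Algebra k B] {x y : B ⊗[k] M}
    (h : ∀ f : M →ₗ[k] k, val f B x = val f B y) : x = y := by
  let b := Module.Basis.ofVectorSpace k M
  apply (b.baseChange B).repr.injective
  ext i
  have key : ∀ z : B ⊗[k] M, (b.baseChange B).repr z i = val (b.coord i) B z := by
    intro z
    induction z using TensorProduct.induction_on with
    | zero => rw [map_zero, map_zero]; rfl
    | tmul c m => rw [Module.Basis.baseChange_repr_tmul, val_tmul, Module.Basis.coord_apply]
    | add z w hz hw => rw [map_add, map_add, Finsupp.add_apply, hz, hw]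
  rw [key, key, h]

theorem equiv_ext {B : Type u} [CommRing B] [Algebra k B] {e e' : B ⊗[k] M ≃ₗ[B] B ⊗[k] M}
    (h : ∀ x : M, e ((1 : B) ⊗ₜ x) = e' ((1 : B) ⊗ₜ x)) : e = e' := by
  ext z
  induction z using TensorProduct.induction_on with
  | zero => rw [map_zero, map_zero]
  | tmul b x =>
    have h1 : b ⊗ₜ[k] x = b • ((1 : B) ⊗ₜ[k] x) := by
      rw [TensorProduct.smul_tmul', smul_eq_mul, _root_.mul_one]
    rw [h1, map_smul, map_smul, h]
  | add x y hx hy => rw [map_add, map_add, hx, hy]

variable [GrpObj G]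

/-- **Every rational module of an anti-affine group is trivial** (any field, any dimension). -/
theorem rho_eq_one [IsIso G.hom.appTop] (m : GMod G M) (B : Type u) [CommRing B] [Algebra k B]
    (g : pt k B ⟶ G) : m.ρ B g = 1 := by
  apply equiv_ext
  intro x
  apply ext_val
  intro f
  have h1 := fun_const (G := G) η[G] (fun B _ _ g => val f B (m.ρ B g ((1 : B) ⊗ₜ x))) (by
    intro B B' _ _ _ _ φ g
    rw [val_Wmap, m.naturality, Wmap_tmul, map_one]) B g
  have h2 : (toUnit (pt k B) ≫ η[G]) = 1 := (Hom.one_def).symm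
  rw [h2, map_one] at h1
  exact h1

end lin

end K398.AntiRep
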