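import Groth.Agent.S11395
import Groth.Agent.Sga3.H794.ChevProper
import Groth.Agent.Sga3.H780.RigidProper
import Groth.Agent.AlgGrp.K398.AlbHom
import Groth.Agent.AlgGrp.K398.AntiAff

/-!
# Automorphisms of a constant abelian variety over a connected base
-/

set_option autoImplicit false
universe u
open CategoryTheory MonoidalCategory CartesianMonoidalCategory MonObj GrpObj AlgebraicGeometry
  CategoryTheory.Limits

namespace K398.AutAv

variable {k : Type u} [Field k] [IsAlgClosed k]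

/-- A proper smooth connected group is anti-affine. -/
theorem isIso_appTop (A : Over (Spec (CommRingCat.of k))) [GrpObj A] [IsProper A.hom] [Smooth A.hom]
    [ConnectedSpace ↥A.left] : IsIso A.hom.appTop := by
  have hgi := Groth.Agent.Sga3.H794.ChevProper.geometricallyIntegral A
  exact Groth.Agent.Sga3.H780.RigidProper.isIso_appTop_hom A

/-- A nonempty scheme of finite type has a rational point. -/
theorem exists_pt (S : Over (Spec (CommRingCat.of k))) [LocallyOfFiniteType S.hom] [Nonempty S.left] :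
    Nonempty (𝟙_ (Over (Spec (CommRingCat.of k))) ⟶ S) := by
  obtain ⟨x, hx⟩ : ∃ x : S.left, IsClosed {x} := by
    have : JacobsonSpace S.left := LocallyOfFiniteType.jacobsonSpace S.hom
    obtain ⟨x, -, hx⟩ := nonempty_inter_closedPoints (X := S.left) (Z := Set.univ) Set.univ_nonempty
      isClosed_univ.isLocallyClosed
    exact ⟨x, hx⟩
  obtain ⟨x₀, -⟩ := Groth.Agent.Books.AlgPts.exists_pt x hx
  exact ⟨x₀⟩

/-- A morphism `A × S → A`, `A` an abelian variety, `S` connected, is `(a, s) ↦ g(s) h(a)` with `h` a homomorphism. -/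
theorem exists_decomp {A B S : Over (Spec (CommRingCat.of k))} [GrpObj A] [IsProper A.hom] [Smooth A.hom]
    [ConnectedSpace ↥A.left] [GrpObj B] [IsProper B.hom] [Smooth B.hom] [ConnectedSpace ↥B.left]
    [LocallyOfFiniteType S.hom] [QuasiCompact S.hom] [ConnectedSpace ↥S.left] (F : A ⊗ S ⟶ B) :
    ∃ (g : S ⟶ B) (h : A ⟶ B), IsMonHom h ∧ F = (snd A S ≫ g) * (fst A S ≫ h) ∧
      ∀ (g' : S ⟶ B) (h' : A ⟶ B), IsMonHom h' → F = (snd A S ≫ g') * (fst A S ≫ h') → g' = g ∧ h' = h := by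
  obtain ⟨s₀⟩ := exists_pt S
  have hA := isIso_appTop A
  have hB := isIso_appTop B
  have hcB : IsCommMonObj B := Groth.Agent.Books.AntiAffine.isCommMonObj B
  have hval : ∀ (g'' : S ⟶ B) (h'' : A ⟶ B), lift (𝟙 A) (toUnit A ≫ s₀) ≫ ((snd A S ≫ g'') * (fst A S ≫ h'')) =
      (toUnit A ≫ s₀ ≫ g'') * h'' := by
    intro g'' h''
    rw [MonObj.comp_mul, ← Category.assoc, ← Category.assoc, lift_fst, lift_snd, Category.id_comp, Category.assoc]
  let g : S ⟶ B := lift (toUnit S ≫ η[A]) (𝟙 S) ≫ F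
  let φ : A ⊗ S ⟶ B := F * (snd A S ≫ g)⁻¹
  have hφ : ∀ {T : Over (Spec (CommRingCat.of k))} (a : T ⟶ A) (s : T ⟶ S),
      lift a s ≫ φ = (lift a s ≫ F) * (s ≫ g)⁻¹ := by
    intro T a s
    change lift a s ≫ (F * (snd A S ≫ g)⁻¹) = _
    rw [MonObj.comp_mul, GrpObj.comp_inv, ← Category.assoc, lift_snd]
  have hg : ∀ {T : Over (Spec (CommRingCat.of k))} (s : T ⟶ S), s ≫ g = lift (1 : T ⟶ A) s ≫ F := by
    intro T s
    change s ≫ lift (toUnit S ≫ η[A]) (𝟙 S) ≫ F = _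
    rw [← Category.assoc, comp_lift, Category.comp_id, ← Category.assoc, Hom.one_def]
    congr 3
    exact toUnit_unique _ _
  let h : A ⟶ B := lift (𝟙 A) (toUnit A ≫ s₀) ≫ φ
  have hh : ∀ {T : Over (Spec (CommRingCat.of k))} (a : T ⟶ A), a ≫ h = lift a (toUnit T ≫ s₀) ≫ φ := by
    intro T a
    change a ≫ lift (𝟙 A) (toUnit A ≫ s₀) ≫ φ = _
    rw [← Category.assoc, comp_lift, Category.comp_id, ← Category.assoc]
    congr 3
    exact toUnit_unique _ _
  have h1 : ∀ {T : Over (Spec (CommRingCat.of k))} (s : T ⟶ S), lift (1 : T ⟶ A) s ≫ φ = 1 := by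
    intro T s
    rw [hφ, hg, mul_inv_cancel]
  have h2 : ∀ {T : Over (Spec (CommRingCat.of k))}, (1 : T ⟶ A) ≫ h = 1 := by
    intro T
    rw [hh, h1]
  have hhom : IsMonHom h := by
    apply K398.AlbHom.isMonHom_of_pointed
    have h3 := h2 (T := 𝟙_ _)
    have h4 : (1 : 𝟙_ (Over (Spec (CommRingCat.of k))) ⟶ A) = η[A] := by
      rw [Hom.one_def, toUnit_unique (toUnit (𝟙_ (Over (Spec (CommRingCat.of k))))) (𝟙 _), Category.id_comp]
    have h5 : (1 : 𝟙_ (Over (Spec (CommRingCat.of k))) ⟶ B) = η[B] := by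
      rw [Hom.one_def, toUnit_unique (toUnit (𝟙_ (Over (Spec (CommRingCat.of k))))) (𝟙 _), Category.id_comp]
    rw [← h4, ← h5]
    exact h3
  let ψ : A ⊗ S ⟶ B := φ * (fst A S ≫ h)⁻¹
  have hψ : ∀ {T : Over (Spec (CommRingCat.of k))} (a : T ⟶ A) (s : T ⟶ S),
      lift a s ≫ ψ = (lift a s ≫ φ) * (a ≫ h)⁻¹ := by
    intro T a s
    change lift a s ≫ (φ * (fst A S ≫ h)⁻¹) = _
    rw [MonObj.comp_mul, GrpObj.comp_inv, ← Category.assoc, lift_fst]
  have h3 : (A ◁ s₀) ≫ ψ = toUnit _ ≫ η[B] := by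
    have h4 : A ◁ s₀ = lift (fst A (𝟙_ _)) (toUnit _ ≫ s₀) := by
      ext1
      · simp
      · rw [whiskerLeft_snd, lift_snd]
        congr 1
        exact toUnit_unique _ _
    rw [h4, hψ, hh, mul_inv_cancel, Hom.one_def]
  obtain ⟨c, hc, -⟩ := Groth.Agent.S11395.result k A S B (K398.AntiAff.bijective_of_isIso hA) ψ s₀ η[B] h3
  have h5 : c = 1 := by
    have h6 : lift (1 : S ⟶ A) (𝟙 S) ≫ ψ = c := by rw [hc, ← Category.assoc, lift_snd, Category.id_comp]
    rw [← h6, hψ, h1, h2, inv_one, _root_.mul_one]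
  have h6 : φ = fst A S ≫ h := by
    have h7 : ψ = 1 := by rw [hc, h5, MonObj.comp_one]
    exact mul_inv_eq_one.1 h7
  have hF : F = (snd A S ≫ g) * (fst A S ≫ h) := by
    have h8 : F * (snd A S ≫ g)⁻¹ = fst A S ≫ h := h6
    rw [mul_comm, ← h8, inv_mul_cancel_right]
  refine ⟨g, h, hhom, hF, fun g' h' hm hF' => ?_⟩
  have e1 : g' = g := by
    have e2 : lift (1 : S ⟶ A) (𝟙 S) ≫ F = g := by rw [← hg, Category.id_comp]
    rw [← e2, hF', MonObj.comp_mul, ← Category.assoc, ← Category.assoc, lift_fst, lift_snd, MonObj.one_comp,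
      _root_.mul_one, Category.id_comp]
  refine ⟨e1, ?_⟩
  have e3 : lift (𝟙 A) (toUnit A ≫ s₀) ≫ F = (toUnit A ≫ s₀ ≫ g) * h' := by
    conv_lhs => rw [hF', e1]
    exact hval g h'
  have e4 : lift (𝟙 A) (toUnit A ≫ s₀) ≫ F = (toUnit A ≫ s₀ ≫ g) * h := by
    conv_lhs => rw [hF]
    exact hval g h
  exact mul_left_cancel (e3.symm.trans e4)

/-- The homomorphism part of an automorphism over `S` is an isomorphism. -/
theorem isIso_of_iso {A S : Over (Spec (CommRingCat.of k))} [GrpObj A] [Nonempty S.left] [LocallyOfFiniteType S.hom]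
    (f : A ⊗ S ≅ A ⊗ S) (hf : f.hom ≫ snd A S = snd A S) (g : S ⟶ A) (h : A ⟶ A) (hc : IsCommMonObj A)
    (hF : f.hom ≫ fst A S = (snd A S ≫ g) * (fst A S ≫ h)) : IsIso h := by
  obtain ⟨s₀⟩ := exists_pt S
  have hf' : f.inv ≫ snd A S = snd A S := by
    calc f.inv ≫ snd A S = f.inv ≫ f.hom ≫ snd A S := by rw [hf]
      _ = snd A S := Iso.inv_hom_id_assoc _ _
  let c : A ⟶ A := toUnit A ≫ s₀ ≫ g
  let f₀ : A ⟶ A := lift (𝟙 A) (toUnit A ≫ s₀) ≫ f.hom ≫ fst A S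
  let f₁ : A ⟶ A := lift (𝟙 A) (toUnit A ≫ s₀) ≫ f.inv ≫ fst A S
  have key : ∀ {T : Over (Spec (CommRingCat.of k))} (a : T ⟶ A) (e : A ⊗ S ⟶ A ⊗ S) (he : e ≫ snd A S = snd A S),
      a ≫ (lift (𝟙 A) (toUnit A ≫ s₀) ≫ e ≫ fst A S) = lift a (toUnit T ≫ s₀) ≫ e ≫ fst A S := by
    intro T a e he
    have h1 : a ≫ toUnit A ≫ s₀ = toUnit T ≫ s₀ := by rw [← Category.assoc, comp_toUnit]
    rw [← Category.assoc, comp_lift, Category.comp_id, h1]
  have key2 : ∀ (e : A ⊗ S ⟶ A ⊗ S) (he : e ≫ snd A S = snd A S),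
      lift (lift (𝟙 A) (toUnit A ≫ s₀) ≫ e ≫ fst A S) (toUnit A ≫ s₀) = lift (𝟙 A) (toUnit A ≫ s₀) ≫ e := by
    intro e he
    ext1
    · simp
    · rw [lift_snd, Category.assoc, he, lift_snd]
  have h01 : f₀ ≫ f₁ = 𝟙 A := by
    change f₀ ≫ (lift (𝟙 A) (toUnit A ≫ s₀) ≫ f.inv ≫ fst A S) = _
    rw [key _ _ hf', key2 _ hf, Category.assoc, Iso.hom_inv_id_assoc, lift_fst]
  have h10 : f₁ ≫ f₀ = 𝟙 A := by
    change f₁ ≫ (lift (𝟙 A) (toUnit A ≫ s₀) ≫ f.hom ≫ fst A S) = _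
    rw [key _ _ hf, key2 _ hf', Category.assoc, Iso.inv_hom_id_assoc, lift_fst]
  have h0 : f₀ = c * h := by
    change lift (𝟙 A) (toUnit A ≫ s₀) ≫ f.hom ≫ fst A S = _
    rw [hF, MonObj.comp_mul, ← Category.assoc, ← Category.assoc, lift_fst, lift_snd, Category.id_comp, Category.assoc]
  have hcT : ∀ {T : Over (Spec (CommRingCat.of k))} (a : T ⟶ A), a ≫ c = toUnit T ≫ s₀ ≫ g := by
    intro T a
    change a ≫ toUnit A ≫ s₀ ≫ g = _
    rw [← Category.assoc]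
    congr 1
    exact toUnit_unique _ _
  refine ⟨(c * 𝟙 A) ≫ f₁, ?_, ?_⟩
  · rw [← Category.assoc, MonObj.comp_mul, hcT, Category.comp_id]
    change (c * h) ≫ f₁ = _
    rw [← h0, h01]
  · have h2 : f₀ = c * h := h0
    have h3 : h = c⁻¹ * f₀ := by rw [h0, inv_mul_cancel_left]
    rw [h3, MonObj.comp_mul, GrpObj.comp_inv, hcT, Category.assoc, h10, Category.comp_id]
    exact inv_mul_cancel_left _ _

end K398.AutAv
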