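import Groth.Agent.AlgGrp.K398.Pts
import Groth.Agent.AlgGrp.K397.StrConn
import Groth.Agent.AGF.K492.Basic
import Groth.Agent.S3276
import Groth.Agent.S3899
import Groth.Agent.Desc.MorDescent

/-!
# Proper homogeneous spaces and Borel subgroups of the affine part
-/

set_option autoImplicit false
universe u
open CategoryTheory MonoidalCategory CartesianMonoidalCategory MonObj GrpObj AlgebraicGeometry
  CategoryTheory.Limits

namespace K398.BorelProper

open Groth.Agent Groth.Agent.Books.BorelOrb Groth.Agent.Agf.H585.QuotPts Groth.Agent.Sga3.H962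

section cat

variable {S : Scheme.{u}}

/-- A rational point of `G` acts by conjugation on a normal subgroup. -/
theorem exists_conj_iso {N G : Over S} [GrpObj N] [GrpObj G] (i : N ⟶ G) [IsMonHom i] [Mono i]
    (hN : AlgGrp.IsNormalHom i) (γ : 𝟙_ (Over S) ⟶ G) :
    ∃ e : N ≅ N, IsMonHom e.hom ∧ ∀ {T : Over S} (n : T ⟶ N), (n ≫ e.hom) ≫ i =
      (toUnit T ≫ γ) * (n ≫ i) * (toUnit T ≫ γ)⁻¹ := by
  have key : ∀ δ : 𝟙_ (Over S) ⟶ G, ∃ c : N ⟶ N, ∀ {T : Over S} (n : T ⟶ N), (n ≫ c) ≫ i =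
      (toUnit T ≫ δ) * (n ≫ i) * (toUnit T ≫ δ)⁻¹ := by
    intro δ
    obtain ⟨c, hc⟩ := hN N (toUnit N ≫ δ) (𝟙 N)
    refine ⟨c, fun {T} n => ?_⟩
    have h1 : n ≫ toUnit N ≫ δ = toUnit T ≫ δ := by rw [← Category.assoc, comp_toUnit]
    rw [Category.assoc, ← hc, MonObj.comp_mul, MonObj.comp_mul, GrpObj.comp_inv, h1, Category.id_comp]
  obtain ⟨c, hc⟩ := key γ
  obtain ⟨c', hc'⟩ := key γ⁻¹
  have hinv : ∀ {T : Over S}, toUnit T ≫ γ⁻¹ = (toUnit T ≫ γ)⁻¹ := fun {T} => GrpObj.comp_inv _ _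
  have h1 : c ≫ c' = 𝟙 N := by
    rw [← cancel_mono i, hc', hinv, _root_.inv_inv, Category.id_comp]
    have := hc (𝟙 N)
    rw [Category.id_comp, Category.id_comp] at this
    rw [this]
    simp only [_root_.mul_assoc, inv_mul_cancel_left, inv_mul_cancel, _root_.mul_one]
  have h2 : c' ≫ c = 𝟙 N := by
    rw [← cancel_mono i, hc, Category.id_comp]
    have := hc' (𝟙 N)
    rw [Category.id_comp, Category.id_comp, hinv, _root_.inv_inv] at this
    rw [this]
    simp only [_root_.mul_assoc, mul_inv_cancel_left, mul_inv_cancel, _root_.mul_one]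
  refine ⟨⟨c, c', h1, h2⟩, ?_, hc⟩
  apply Groth.Agent.Sga3B.Pts.isMonHom_of_points
  intro T x y
  rw [← cancel_mono i, hc, MonObj.mul_comp, MonObj.mul_comp, hc, hc]
  group

end cat

variable {k : Type u} [Field k] [IsAlgClosed k]

/-- If `G/H` is proper then `H` contains a Borel subgroup of the normal affine subgroup `N`. -/
theorem exists_borel {G N H X : Over (Spec (CommRingCat.of k))} [GrpObj G] [GrpObj N] [GrpObj H]
    [Smooth G.hom] [QuasiCompact G.hom] (i : N ⟶ G) [IsMonHom i] [IsClosedImmersion i.left]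
    [Smooth N.hom] [ConnectedSpace N.left] [IsAffine N.left] (hN : AlgGrp.IsNormalHom i)
    (h : H ⟶ G) [IsMonHom h] (a : AlgGrp.Action G X) (o : 𝟙_ (Over (Spec (CommRingCat.of k))) ⟶ X)
    (hX : AGF.IsQuotient h X a o) [IsProper X.hom] :
    ∃ (B : Over (Spec (CommRingCat.of k))) (_ : GrpObj B) (b : B ⟶ N) (f : B ⟶ H),
      Red.IsBorelOver k b ∧ f ≫ h = b ≫ i := by
  have hm : Mono i := Books.AlgPtsGrp.mono_of_isClosedImmersion i
  obtain ⟨B, _, b₀, hb⟩ := K492.Basic.exists_isBorelOver N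
  obtain ⟨hb1, hb2, hb3, hb4, hb5, -⟩ := id hb
  have hBa : IsAffine B.left := K492.Basic.isAffine_of_isClosedImmersion b₀
  have hBs : Group.IsSolvable (𝟙_ (Over (Spec (CommRingCat.of k))) ⟶ B) := by
    obtain ⟨n, hn⟩ := hb5
    exact ⟨n, hn _⟩
  have hne : Nonempty X.left := ⟨o.left (IsLocalRing.closedPoint k)⟩
  obtain ⟨x, hx⟩ := S3276.result k B X (K397.StrConn.resAct (b₀ ≫ i) a)
  have hXf : LocallyOfFiniteType X.hom := hX.1
  obtain ⟨g, hg⟩ := exists_lift_pt (q := a.orbitMap o) hX.2.2.1 x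
  have h1 : sm (K397.StrConn.resAct (b₀ ≫ i) a) (𝟙 B) (toUnit B ≫ x) = toUnit B ≫ x := hx B (𝟙 B)
  rw [K397.StrConn.sm_resAct, Category.id_comp, ← hg, ← Category.assoc, comp_orbitMap, ← mul_sm,
    ← comp_orbitMap, ← comp_orbitMap] at h1
  obtain ⟨f, hf⟩ := exists_of_comp_eq hX.2.2.2 h1.symm
  obtain ⟨e, he1, he2⟩ := exists_conj_iso i hN g⁻¹
  refine ⟨B, inferInstance, b₀ ≫ e.hom, f, Agf.H582.ConjDict.isBorelOver_comp_iso b₀ e hb, ?_⟩
  rw [he2, GrpObj.comp_inv, _root_.inv_inv, _root_.mul_assoc, hf, inv_mul_cancel_left]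

section
omit [IsAlgClosed k]

theorem orbitMap_props {G X : Over (Spec (CommRingCat.of k))} [GrpObj G] {H : Over (Spec (CommRingCat.of k))}
    [GrpObj H] [QuasiCompact G.hom] {h : H ⟶ G} {a : AlgGrp.Action G X}
    {o : 𝟙_ (Over (Spec (CommRingCat.of k))) ⟶ X}
    (hX : AGF.IsQuotient h X a o) : LocallyOfFiniteType X.hom ∧ Flat (a.orbitMap o).left ∧
      Surjective (a.orbitMap o).left ∧ QuasiCompact (a.orbitMap o).left := by
  have h1 := hX.1
  exact ⟨h1, hX.2.1, hX.2.2.1, Pts.quasiCompact_left _⟩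

/-- Two quotients by the same subgroup are isomorphic. -/
theorem exists_iso {G H X Y : Over (Spec (CommRingCat.of k))} [GrpObj G] [GrpObj H] [QuasiCompact G.hom]
    {h : H ⟶ G} {a : AlgGrp.Action G X} {o : 𝟙_ (Over (Spec (CommRingCat.of k))) ⟶ X}
    (hX : AGF.IsQuotient h X a o) {b : AlgGrp.Action G Y} {y : 𝟙_ (Over (Spec (CommRingCat.of k))) ⟶ Y}
    (hY : AGF.IsQuotient h Y b y) : Nonempty (X ≅ Y) := by
  obtain ⟨x1, x2, x3, x4⟩ := orbitMap_props hX
  obtain ⟨y1, y2, y3, y4⟩ := orbitMap_props hY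
  obtain ⟨u, hu⟩ := Fpqc.exists_desc (a.orbitMap o) (b.orbitMap y) (fun T s t hst => by
    obtain ⟨c, hc⟩ := exists_of_comp_eq hX.2.2.2 hst
    rw [hc, mul_comp_eq hY.2.2.2])
  obtain ⟨v, hv⟩ := Fpqc.exists_desc (b.orbitMap y) (a.orbitMap o) (fun T s t hst => by
    obtain ⟨c, hc⟩ := exists_of_comp_eq hY.2.2.2 hst
    rw [hc, mul_comp_eq hX.2.2.2])
  have e1 : Epi (a.orbitMap o) := Fpqc.epi_of_flat_surjective _
  have e2 : Epi (b.orbitMap y) := Fpqc.epi_of_flat_surjective _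
  exact ⟨⟨u, v, by rw [← cancel_epi (a.orbitMap o), ← Category.assoc, hu, hv, Category.comp_id],
    by rw [← cancel_epi (b.orbitMap y), ← Category.assoc, hv, hu, Category.comp_id]⟩⟩

/-- The quotient by a closed subgroup is separated. -/
theorem isSeparated {G H X : Over (Spec (CommRingCat.of k))} [GrpObj G] [GrpObj H] [QuasiCompact G.hom]
    [LocallyOfFiniteType G.hom] {h : H ⟶ G} [IsMonHom h] [IsClosedImmersion h.left]
    {a : AlgGrp.Action G X} {o : 𝟙_ (Over (Spec (CommRingCat.of k))) ⟶ X}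
    (hX : AGF.IsQuotient h X a o) : IsSeparated X.hom := by
  obtain ⟨Y, b, y, -, hs, hY⟩ := K397.StrConn.exists_isQuotient h
  obtain ⟨e⟩ := exists_iso hX hY
  rw [← Over.w e.hom]
  infer_instance

end

/-- The quotient by a Borel subgroup of a normal subgroup with proper quotient is proper. -/
theorem isProper_quotient {G N A B Y : Over (Spec (CommRingCat.of k))} [GrpObj G] [GrpObj N] [GrpObj A] [GrpObj B]
    [LocallyOfFiniteType G.hom] [QuasiCompact G.hom] (i : N ⟶ G) [IsMonHom i] [IsClosedImmersion i.left]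
    [Smooth N.hom] [ConnectedSpace N.left] [IsAffine N.left] (α : G ⟶ A) [IsMonHom α] [Flat α.left]
    [Surjective α.left] [IsProper A.hom] (hk : AlgGrp.IsKernel i α) (b : B ⟶ N) (hb : Red.IsBorelOver k b)
    (a : AlgGrp.Action G Y) (o : 𝟙_ (Over (Spec (CommRingCat.of k))) ⟶ Y)
    (hY : AGF.IsQuotient (b ≫ i) Y a o) [QuasiCompact Y.hom] [IsSeparated Y.hom] : IsProper Y.hom := by
  have hb1 := hb.1
  have hb2 := hb.2.1
  have hNq : QuasiCompact N.hom := by rw [← Over.w i]; infer_instance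
  obtain ⟨Z, c, z, hZq, hZs, hZ⟩ := K397.StrConn.exists_isQuotient b
  have hZp : IsProper Z.hom := S3899.result k N B b hb Z c z hZ
  obtain ⟨z1, z2, z3, z4⟩ := orbitMap_props hZ
  obtain ⟨y1, y2, y3, y4⟩ := orbitMap_props hY
  have hαq : QuasiCompact α.left := Pts.quasiCompact_left α
  have hkc : ∀ {T : Over (Spec (CommRingCat.of k))} (n : T ⟶ N), (n ≫ i) ≫ α = 1 := by
    intro T n
    exact (Fpqc.kernel_iff i α hk T (n ≫ i)).2 ⟨n, rfl⟩
  obtain ⟨π, hπ⟩ := Fpqc.exists_desc (a.orbitMap o) α (fun T s t hst => by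
    obtain ⟨d, hd⟩ := exists_of_comp_eq hY.2.2.2 hst
    rw [hd, MonObj.mul_comp, ← Category.assoc d b i, hkc, _root_.mul_one])
  obtain ⟨j, hj⟩ := Fpqc.exists_desc (c.orbitMap z) (i ≫ a.orbitMap o) (fun T s t hst => by
    obtain ⟨d, hd⟩ := exists_of_comp_eq hZ.2.2.2 hst
    have h1 : (t ≫ i) = (s ≫ i) * (d ≫ b ≫ i) := by rw [hd, MonObj.mul_comp, Category.assoc]
    rw [← Category.assoc, ← Category.assoc, h1, mul_comp_eq hY.2.2.2])
  -- the fibre product
  let W : Over (Spec (CommRingCat.of k)) := pullback α π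
  let p₁ : W ⟶ G := pullback.fst α π
  let p₂ : W ⟶ Y := pullback.snd α π
  have hcov : Epi (G ◁ (c.orbitMap z)) := by
    have h1 : G ◁ (c.orbitMap z) = (𝟙 G ⊗ₘ (c.orbitMap z)) := (id_tensorHom G _).symm
    have h2 : Flat (G ◁ (c.orbitMap z)).left := by
      rw [h1]; exact Fpqc.tensorHom_left_of (@Flat) _ _ (by rw [Over.id_left]; infer_instance) z2
    have h3 : Surjective (G ◁ (c.orbitMap z)).left := by
      rw [h1]; exact Fpqc.tensorHom_left_of (@Surjective) _ _ (by rw [Over.id_left]; infer_instance) z3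
    exact Fpqc.epi_of_flat_surjective _
  have hw : fst G Z ≫ α = ((G ◁ j) ≫ a.act) ≫ π := by
    rw [← cancel_epi (G ◁ (c.orbitMap z))]
    have e1 : (G ◁ (c.orbitMap z)) ≫ fst G Z ≫ α = fst G N ≫ α := by
      rw [← Category.assoc, whiskerLeft_fst]
    have e2 : (G ◁ (c.orbitMap z)) ≫ (G ◁ j) ≫ a.act = (fst G N * (snd G N ≫ i)) ≫ a.orbitMap o := by
      rw [comp_orbitMap, mul_sm, ← comp_orbitMap, Category.assoc, ← hj, sm, ← Category.assoc]
      congr 1
      ext1 <;> simp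
    rw [e1, Category.assoc, ← Category.assoc, ← Category.assoc, Category.assoc (G ◁ _), e2, Category.assoc, hπ,
      MonObj.mul_comp, hkc, _root_.mul_one]
  let m : G ⊗ Z ⟶ W := pullback.lift (fst G Z) ((G ◁ j) ≫ a.act) hw
  have hm1 : m ≫ p₁ = fst G Z := pullback.lift_fst _ _ _
  have hm2 : m ≫ p₂ = (G ◁ j) ≫ a.act := pullback.lift_snd _ _ _
  have sq : IsPullback p₁.left p₂.left α.left π.left := (IsPullback.of_hasPullback α π).map (Over.forget _)
  have hπ1 : IsSeparated π.left := by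
    have : IsSeparated (π.left ≫ A.hom) := by rw [Over.w]; infer_instance
    exact IsSeparated.of_comp π.left A.hom
  have hπ2 : LocallyOfFiniteType π.left := Pts.locallyOfFiniteType_left π
  have hπ3 : QuasiCompact π.left := Pts.quasiCompact_left π
  have hp1 : IsSeparated p₁.left := MorphismProperty.of_isPullback (P := @IsSeparated) sq.flip hπ1
  have hp2 : LocallyOfFiniteType p₁.left := MorphismProperty.of_isPullback (P := @LocallyOfFiniteType) sq.flip hπ2
  have hp3 : QuasiCompact p₁.left := MorphismProperty.of_isPullback (P := @QuasiCompact) sq.flip hπ3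
  have hW1 : LocallyOfFiniteType W.hom := by rw [← Over.w p₁]; infer_instance
  have hW2 : QuasiCompact W.hom := by rw [← Over.w p₁]; infer_instance
  have hGZ1 : LocallyOfFiniteType (G ⊗ Z).hom := by rw [Over.tensorObj_hom]; infer_instance
  have hGZ2 : QuasiCompact (G ⊗ Z).hom := by rw [Over.tensorObj_hom]; infer_instance
  have hms : Surjective m.left := by
    apply Pts.surjective_of_forall_pt m
    intro w
    obtain ⟨g', hg'⟩ := exists_lift_pt (q := a.orbitMap o) y3 (w ≫ p₂)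
    have h1 : (w ≫ p₁) ≫ α = g' ≫ α := by
      rw [Category.assoc, (pullback.condition : p₁ ≫ α = p₂ ≫ π), ← Category.assoc, ← hg', Category.assoc, hπ]
    obtain ⟨n, hn⟩ := (Fpqc.rel_of_kernel i α hk _ _ _).1 h1
    refine ⟨lift (w ≫ p₁) (n ≫ c.orbitMap z), ?_⟩
    apply pullback.hom_ext
    · change (_ ≫ m) ≫ p₁ = w ≫ p₁
      rw [Category.assoc, hm1, lift_fst]
    · change (_ ≫ m) ≫ p₂ = w ≫ p₂
      rw [Category.assoc, hm2, ← hg']
      have h2 : lift (w ≫ p₁) (n ≫ c.orbitMap z) ≫ (G ◁ j) ≫ a.act =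
          ((w ≫ p₁) * (n ≫ i)) ≫ a.orbitMap o := by
        have e3 : ((w ≫ p₁) * (n ≫ i)) ≫ a.orbitMap o = sm a (w ≫ p₁) ((n ≫ i) ≫ a.orbitMap o) := by
          rw [comp_orbitMap, mul_sm, ← comp_orbitMap]
        rw [e3, Category.assoc, ← hj, sm, ← Category.assoc]
        congr 1
        ext1 <;> simp
      rw [h2, hn, mul_inv_cancel_left]
  have hp4 : UniversallyClosed p₁.left := by
    have h1 : UniversallyClosed (m.left ≫ p₁.left) := by
      rw [← Over.comp_left, hm1, Over.fst_left]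
      infer_instance
    exact UniversallyClosed.of_comp_surjective m.left p₁.left
  have hp5 : IsProper p₁.left := { }
  have hπp : IsProper π.left := by
    have := Groth.Agent.Desc.MorDescent.descendsAlong_isProper.{u}
    exact MorphismProperty.of_isPullback_of_descendsAlong (P := @IsProper)
      (Q := (@Surjective ⊓ @Flat ⊓ @QuasiCompact)) sq ⟨⟨inferInstance, inferInstance⟩, inferInstance⟩ hp5
  rw [← Over.w π]
  infer_instance

/-- If `H` contains a Borel subgroup of `N` and `G/N` is proper then `G/H` is proper. -/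
theorem isProper_of_borel {G N A B H X : Over (Spec (CommRingCat.of k))} [GrpObj G] [GrpObj N] [GrpObj A] [GrpObj B]
    [GrpObj H] [LocallyOfFiniteType G.hom] [QuasiCompact G.hom] (i : N ⟶ G) [IsMonHom i] [IsClosedImmersion i.left]
    [Smooth N.hom] [ConnectedSpace N.left] [IsAffine N.left] (α : G ⟶ A) [IsMonHom α] [Flat α.left]
    [Surjective α.left] [IsProper A.hom] (hk : AlgGrp.IsKernel i α) (b : B ⟶ N) (hb : Red.IsBorelOver k b)
    (h : H ⟶ G) [IsMonHom h] [IsClosedImmersion h.left] (f : B ⟶ H) (hf : f ≫ h = b ≫ i)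
    (a : AlgGrp.Action G X) (o : 𝟙_ (Over (Spec (CommRingCat.of k))) ⟶ X)
    (hX : AGF.IsQuotient h X a o) : IsProper X.hom := by
  have hb1 := hb.1
  have hb2 := hb.2.1
  have hbi : IsClosedImmersion (b ≫ i).left := by rw [Over.comp_left]; infer_instance
  have hXs := isSeparated hX
  obtain ⟨x1, x2, x3, x4⟩ := orbitMap_props hX
  obtain ⟨Y, c, y, hYq, hYs, hY⟩ := K397.StrConn.exists_isQuotient (b ≫ i)
  obtain ⟨y1, y2, y3, y4⟩ := orbitMap_props hY
  have hYp := isProper_quotient i α hk b hb c y hY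
  obtain ⟨r, hr⟩ := Fpqc.exists_desc (c.orbitMap y) (a.orbitMap o) (fun T s t hst => by
    obtain ⟨d, hd⟩ := exists_of_comp_eq hY.2.2.2 hst
    rw [hd, ← hf, ← Category.assoc, mul_comp_eq hX.2.2.2])
  have hrs : Surjective r.left := by
    have : Surjective ((c.orbitMap y).left ≫ r.left) := by rw [← Over.comp_left, hr]; exact x3
    exact Surjective.of_comp (c.orbitMap y).left r.left
  exact Pts.isProper_of_surjective r

end K398.BorelProper
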