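import Groth.Agent.AlgGrp.K398.Pts
import Groth.Agent.AlgGrp.K399.HopfDom
import Groth.Agent.AlgGrp.K408.ChevMat
import Groth.Agent.GIT.K690.GLnRep
import Groth.Agent.AlgGrp.K401.CompDef
import Groth.Agent.AGF.K492.QuotMono
import Groth.Agent.Sga3.H794.ChevKer
import Groth.Agent.AlgGrp.K395.PreImg
import Groth.Agent.Sga3C.FlatOfComp

/-!
# A line whose stabiliser is a given subgroup

`M` of finite type over a field, `N` an affine normal subgroup (kernel of `q : M ⟶ P`), `H` a closed subgroup mapping onto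
`P`.  Then `H` contains the largest anti-affine subgroup of `M`, hence it is the preimage of a closed subgroup of the affine
group `M / M_ant`, and it is the stabiliser of a line in a finite-dimensional representation of `M`.
-/

set_option autoImplicit false
universe u
open CategoryTheory CategoryTheory.Limits MonoidalCategory CartesianMonoidalCategory MonObj GrpObj
  AlgebraicGeometry

namespace K398.LineStab

open Groth.Agent Groth.Agent.Agf.H584.QBasic

section cover

variable {S : Scheme.{u}}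

/-- A morphism factors through a monomorphism if it does so after a faithfully flat quasi-compact cover. -/
theorem exists_fac_of_cover {T' T X C : Over S} (e : T' ⟶ T) [Flat e.left] [Surjective e.left] [QuasiCompact e.left]
    (c : C ⟶ X) [Mono c] (f : T ⟶ X) (g : T' ⟶ C) (h : g ≫ c = e ≫ f) : ∃ s : T ⟶ C, s ≫ c = f := by
  obtain ⟨s, hs⟩ := exists_desc e g (fun a b hab => by
    rw [← cancel_mono c, Category.assoc, Category.assoc, h, ← Category.assoc, hab, Category.assoc])
  have := epi_of e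
  refine ⟨s, ?_⟩
  rw [← cancel_epi e, ← Category.assoc, hs, h]

/-- Points lift through a faithfully flat quasi-compact morphism after a cover. -/
theorem exists_cover {G Q T : Over S} (q : G ⟶ Q) [Flat q.left] [Surjective q.left] [QuasiCompact q.left]
    (f : T ⟶ Q) : ∃ (T' : Over S) (e : T' ⟶ T) (g : T' ⟶ G), Flat e.left ∧ Surjective e.left ∧
      QuasiCompact e.left ∧ g ≫ q = e ≫ f := by
  have hsq : IsPullback (pullback.fst q f).left (pullback.snd q f).left q.left f.left :=
    (IsPullback.of_hasPullback q f).map (Over.forget S)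
  exact ⟨pullback q f, pullback.snd q f, pullback.fst q f,
    MorphismProperty.of_isPullback (P := @Flat) hsq inferInstance,
    MorphismProperty.of_isPullback (P := @Surjective) hsq inferInstance,
    MorphismProperty.of_isPullback (P := @QuasiCompact) hsq inferInstance, pullback.condition⟩

/-- The image of a normal subgroup under a faithfully flat homomorphism is normal. -/
theorem isNormalHom_image {N G C Q : Over S} [GrpObj N] [GrpObj G] [GrpObj C] [GrpObj Q] (n : N ⟶ G)
    (hn : AlgGrp.IsNormalHom n) (f : G ⟶ Q) [IsMonHom f] [Flat f.left] [Surjective f.left] [QuasiCompact f.left]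
    (a : N ⟶ C) [Flat a.left] [Surjective a.left] [QuasiCompact a.left] (c : C ⟶ Q) [Mono c]
    (hac : a ≫ c = n ≫ f) : AlgGrp.IsNormalHom c := by
  intro T g x
  obtain ⟨T₁, e₁, g₁, h1, h2, h3, h4⟩ := exists_cover f g
  obtain ⟨T₂, e₂, x₂, h5, h6, h7, h8⟩ := exists_cover a (e₁ ≫ x)
  have := epi_of e₁
  obtain ⟨y, hy⟩ := hn T₂ (e₂ ≫ g₁) x₂
  obtain ⟨s, hs⟩ := exists_fac_of_cover e₂ c (e₁ ≫ (g * (x ≫ c) * g⁻¹)) (y ≫ a) (by
    have e1 : x₂ ≫ n ≫ f = e₂ ≫ e₁ ≫ x ≫ c := by
      rw [← hac, ← Category.assoc, h8]; simp only [Category.assoc]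
    rw [Category.assoc, hac, ← Category.assoc, ← hy, MonObj.mul_comp, MonObj.mul_comp, GrpObj.inv_comp,
      MonObj.comp_mul, MonObj.comp_mul, GrpObj.comp_inv, MonObj.comp_mul, MonObj.comp_mul, GrpObj.comp_inv,
      Category.assoc, Category.assoc, h4, e1])
  obtain ⟨t, ht⟩ := exists_fac_of_cover e₁ c (g * (x ≫ c) * g⁻¹) s hs
  exact ⟨t, ht.symm⟩

end cover

section ant

open K398.Pts

variable {k : Type u} [Field k]

/-- A subgroup mapping faithfully flatly onto the quotient by an affine normal subgroup contains the largest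
anti-affine subgroup (over any field, nothing smooth). -/
theorem exists_fac_ant {M N H P Ma R : Over (Spec (CommRingCat.of k))} [GrpObj M] [GrpObj N] [GrpObj H] [GrpObj P]
    [GrpObj Ma] [GrpObj R] [LocallyOfFiniteType M.hom] [QuasiCompact M.hom] [LocallyOfFiniteType P.hom]
    (i : N ⟶ M) (q : M ⟶ P) (h : H ⟶ M) [IsMonHom q] [IsMonHom h] [IsClosedImmersion h.left]
    (hi : AlgGrp.IsKernel i q) [IsAffine N.left] [Flat (h ≫ q).left] [Surjective (h ≫ q).left]
    {n : Ma ⟶ M} {r : M ⟶ R} (hs : Affin.IsAffSeq n r) : ∃ f : Ma ⟶ H, f ≫ h = n := by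
  have i1 := hs.homN
  have i2 := hs.homQ
  have i3 := hs.closed
  have i4 := hs.smooth
  have i5 := hs.qcN
  have i6 := hs.anti
  have i7 := hs.conn
  have i8 := hs.comm
  have hHft : LocallyOfFiniteType H.hom := by rw [← Over.w h]; infer_instance
  have hHqc : QuasiCompact H.hom := by rw [← Over.w h]; infer_instance
  have hPqc : QuasiCompact P.hom := quasiCompact_of_surjective (h ≫ q)
  have hPsep : IsSeparated P.hom := Books.AntiAffine.isSeparated_hom P
  have hhq : QuasiCompact (h ≫ q).left := Pts.quasiCompact_left _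
  -- the anti-affine part of `H`
  obtain ⟨Ha, RH, _, _, p, ρ, hP⟩ := Affin.exists_affSeq H
  have j1 := hP.homN
  have j2 := hP.homQ
  have j3 := hP.closed
  have j4 := hP.smooth
  have j5 := hP.qcN
  have j6 := hP.anti
  have j7 := hP.affine
  have j8 := hP.ftQ
  have j9 := hP.surj
  have j10 := hP.flat
  have hRHq : QuasiCompact RH.hom := quasiCompact_of_surjective ρ
  -- its image in `P`
  obtain ⟨C, _, a, c, ha, hc, hac, haf, has, half, hcc⟩ := exists_image (p ≫ h ≫ q)
  have hCft : LocallyOfFiniteType C.hom := by rw [← Over.w c]; infer_instance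
  have hcm : Mono c := Books.AlgPtsGrp.mono_of_isClosedImmersion c
  have haq : QuasiCompact a.left := Pts.quasiCompact_left _
  have hCn : AlgGrp.IsNormalHom c := isNormalHom_image p hP.normal (h ≫ q) a c hac
  obtain ⟨R', _, r', hr1, hr2, hr5, hR'ft, hR'q, -⟩ := K395.PreImg.exists_quot c hCn
  have hr3 := hr2.flat
  have hr4 := hr2.surj
  have hR's : IsSeparated R'.hom := Books.AntiAffine.isSeparated_hom R'
  have hR'a : IsAffine R'.left := by
    have h1 : p ≫ (h ≫ q ≫ r') = toUnit Ha ≫ η[R'] := by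
      have : p ≫ (h ≫ q ≫ r') = (p ≫ h ≫ q) ≫ r' := by simp only [Category.assoc]
      rw [this, ← hac, Category.assoc, hr5.w, ← Category.assoc, toUnit_unique (a ≫ toUnit C) (toUnit Ha)]
    obtain ⟨φ, hφ1, hφ2, -⟩ := S3280.result k H Ha RH R' ρ p hP.ker (h ≫ q ≫ r') h1
    have e1 : ρ.left ≫ φ.left = (h ≫ q).left ≫ r'.left := by
      rw [← Over.comp_left, hφ2, ← Category.assoc, Over.comp_left]
    have hφs : Surjective φ.left := by
      have : Surjective (ρ.left ≫ φ.left) := by rw [e1]; infer_instance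
      exact Surjective.of_comp ρ.left φ.left
    have hφf : Flat φ.left := by
      have : Flat (ρ.left ≫ φ.left) := by rw [e1]; infer_instance
      exact Sga3C.FlatOfComp.flat_of_comp ρ.left φ.left
    exact Sga3.H821.AffProper.isAffine_of_flat_surjective k RH R' φ
  have hn1 : n ≫ q ≫ r' = 1 := Affin.hom_eq_one (n ≫ q ≫ r')
  obtain ⟨n', hn'⟩ : ∃ n' : Ma ⟶ C, n' ≫ c = n ≫ q :=
    ⟨hr5.lift (n ≫ q) (toUnit Ma) (by rw [Category.assoc, hn1]; rfl), hr5.lift_fst _ _ _⟩
  -- `Ha` is a closed subgroup of `Ma`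
  obtain ⟨b, hb⟩ := hs.exists_lift (p ≫ h)
  have hnm : Mono n := hs.mono
  have hbh : IsMonHom b := by
    refine ⟨?_, ?_⟩
    · rw [← cancel_mono n, Category.assoc, hb, IsMonHom.one_hom n, IsMonHom.one_hom]
    · rw [← cancel_mono n, Category.assoc, hb, IsMonHom.mul_hom, Category.assoc, IsMonHom.mul_hom n,
        ← Category.assoc, tensorHom_comp_tensorHom, hb]
  have hbc : IsClosedImmersion b.left := by
    have h1 : IsClosedImmersion (b.left ≫ n.left) := by
      rw [← Over.comp_left, hb, Over.comp_left]; infer_instance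
    exact IsClosedImmersion.of_comp b.left n.left
  have hbm : Mono b := Books.AlgPtsGrp.mono_of_isClosedImmersion b
  have hbn : AlgGrp.IsNormalHom b := by
    intro T g x
    refine ⟨x, ?_⟩
    have : g * (x ≫ b) = (x ≫ b) * g := mul_comm g (x ≫ b)
    rw [this, mul_inv_cancel_right]
  obtain ⟨R₂, _, r₂, hr1', hr2', hr3', hr4', hr5', hr6', hr7', hr8'⟩ := S3030.result k Ha Ma b hbn
  have hRs : Smooth R₂.hom := hr8' inferInstance
  have hRq : QuasiCompact R₂.hom := quasiCompact_of_surjective r₂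
  have hRaa : IsIso R₂.hom.appTop := isIso_appTop_of_flat_surjective r₂
  -- the kernel `L` of `Ma ⟶ P` is affine
  obtain ⟨L, _, l, hlm, hLk⟩ : ∃ (L : Over (Spec (CommRingCat.of k))) (_ : GrpObj L) (l : L ⟶ Ma), IsMonHom l ∧
      AlgGrp.IsKernel l (n ≫ q) := by
    obtain ⟨hg, hL⟩ := Sga3B.KerGrp.exists_grpObj (n ≫ q)
    exact ⟨_, hg, _, hL, Sga3B.KerGrp.isPullback_ker (n ≫ q)⟩
  have hLN : (l ≫ n) ≫ q = toUnit _ ≫ η[P] := by
    rw [Category.assoc]; exact hLk.w
  have hLc : IsClosedImmersion l.left := Sga3.H794.ChevKer.isClosedImmersion_ker l (n ≫ q) hLk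
  have hlmono : Mono l := Books.AlgPtsGrp.mono_of_isClosedImmersion l
  have hLcomp : IsClosedImmersion (l ≫ n).left := by
    rw [Over.comp_left]; infer_instance
  have hLa : IsAffine L.left := by
    have h1 : IsClosedImmersion ((hi.lift _ _ hLN).left ≫ i.left) := by
      rw [← Over.comp_left, hi.lift_fst]; exact hLcomp
    have hic : IsClosedImmersion i.left := Sga3.H794.ChevKer.isClosedImmersion_ker i q hi
    have h2 : IsClosedImmersion (hi.lift _ _ hLN).left := IsClosedImmersion.of_comp _ i.left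
    exact isAffine_of_isAffineHom (hi.lift _ _ hLN).left
  have hLft : LocallyOfFiniteType L.hom := by
    rw [← Over.w l]; infer_instance
  have hlq : l ≫ n ≫ q = 1 := hLk.w
  have hbn' : b ≫ n ≫ q = a ≫ c := by rw [← Category.assoc, hb, Category.assoc, ← hac]
  -- `L × Ha ⟶ Ma` is faithfully flat
  let t : L ⊗ Ha ⟶ Ma := (fst L Ha ≫ l) * (snd L Ha ≫ b)
  have htn : t ≫ n ≫ q = snd L Ha ≫ b ≫ n ≫ q := by
    rw [MonObj.mul_comp, Category.assoc, hlq, MonObj.comp_one, _root_.one_mul, Category.assoc]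
  have hsq : IsPullback t (snd L Ha) n' a := by
    have hw : t ≫ n' = snd L Ha ≫ a := by
      rw [← cancel_mono c, Category.assoc, hn', htn, hbn', Category.assoc]
    have key : ∀ {T : Over (Spec (CommRingCat.of k))} (m : T ⟶ Ma) (y : T ⟶ Ha), m ≫ n' = y ≫ a →
        ∃ z : T ⟶ L, z ≫ l = m * (y ≫ b)⁻¹ := by
      intro T m y hmy
      refine ⟨hLk.lift (m * (y ≫ b)⁻¹) (toUnit T) ?_, hLk.lift_fst _ _ _⟩
      have : (m * (y ≫ b)⁻¹) ≫ n ≫ q = 1 := by
        rw [MonObj.mul_comp, GrpObj.inv_comp, Category.assoc y b, hbn', ← Category.assoc y, ← hmy,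
          Category.assoc, hn', mul_inv_cancel]
      exact this
    refine ⟨⟨hw⟩, ⟨PullbackCone.IsLimit.mk hw
      (fun s => lift (key s.fst s.snd s.condition).choose s.snd) ?_ ?_ ?_⟩⟩
    · intro s
      rw [MonObj.comp_mul, ← Category.assoc, lift_fst, (key s.fst s.snd s.condition).choose_spec,
        ← Category.assoc, lift_snd, inv_mul_cancel_right]
    · intro s
      exact lift_snd _ _
    · intro s m h1 h2
      have h3 := (key s.fst s.snd s.condition).choose_spec
      apply CartesianMonoidalCategory.hom_ext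
      · rw [lift_fst, ← cancel_mono l, h3, ← h1, MonObj.comp_mul, ← h2, Category.assoc, Category.assoc,
          mul_inv_cancel_right]
      · rw [lift_snd, h2]
  have htf : Flat t.left := MorphismProperty.of_isPullback (P := @Flat) (hsq.map (Over.forget _)).flip haf
  have hts : Surjective t.left := MorphismProperty.of_isPullback (P := @Surjective) (hsq.map (Over.forget _)).flip has
  have hbr : b ≫ r₂ = 1 := hr5'.w
  have htr : t ≫ r₂ = fst L Ha ≫ l ≫ r₂ := by
    rw [MonObj.mul_comp, Category.assoc (snd L Ha), hbr, MonObj.comp_one, _root_.mul_one, Category.assoc]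
  have hff : Flat (fst L Ha).left := inferInstanceAs (Flat (pullback.fst L.hom Ha.hom))
  have hfs : Surjective (fst L Ha).left := by
    have h1 : (lift (𝟙 L) (1 : L ⟶ Ha)).left ≫ (fst L Ha).left = 𝟙 _ := by
      rw [← Over.comp_left, lift_fst]; rfl
    have h2 : Surjective ((lift (𝟙 L) (1 : L ⟶ Ha)).left ≫ (fst L Ha).left) := by
      rw [h1]; infer_instance
    exact Surjective.of_comp (lift (𝟙 L) (1 : L ⟶ Ha)).left (fst L Ha).left
  have hcomp : (fst L Ha).left ≫ (l ≫ r₂).left = t.left ≫ r₂.left := by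
    rw [← Over.comp_left, ← Over.comp_left, htr]
  have hLf : Flat (l ≫ r₂).left := by
    have : Flat ((fst L Ha).left ≫ (l ≫ r₂).left) := by rw [hcomp]; infer_instance
    exact Sga3C.FlatOfComp.flat_of_comp (fst L Ha).left (l ≫ r₂).left
  have hLs : Surjective (l ≫ r₂).left := by
    have : Surjective ((fst L Ha).left ≫ (l ≫ r₂).left) := by rw [hcomp]; infer_instance
    exact Surjective.of_comp (fst L Ha).left (l ≫ r₂).left
  have hRsep : IsSeparated R₂.hom := Books.AntiAffine.isSeparated_hom R₂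
  have hRa : IsAffine R₂.left := Sga3.H821.AffProper.isAffine_of_flat_surjective k L R₂ (l ≫ r₂)
  have hRt : IsIso R₂.hom := isIso_hom_of_affine_antiAffine hRaa
  have hbi : IsIso b := isIso_of_isKernel b r₂ hr5' hRt
  refine ⟨inv b ≫ p, ?_⟩
  rw [Category.assoc, ← hb, IsIso.inv_hom_id_assoc]

/-- A closed subgroup containing the anti-affine part is the preimage of a closed subgroup of the affinization. -/
theorem exists_sub {M H Ma R : Over (Spec (CommRingCat.of k))} [GrpObj M] [GrpObj H]
    [GrpObj Ma] [GrpObj R] [LocallyOfFiniteType M.hom] [QuasiCompact M.hom]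
    (h : H ⟶ M) [IsMonHom h] [IsClosedImmersion h.left]
    {n : Ma ⟶ M} {r : M ⟶ R} (hs : Affin.IsAffSeq n r) (f : Ma ⟶ H) (hf : f ≫ h = n) :
    ∃ (H' : Over (Spec (CommRingCat.of k))) (_ : GrpObj H') (c : H' ⟶ R), IsMonHom c ∧ IsClosedImmersion c.left ∧
      ∀ {T : Over (Spec (CommRingCat.of k))} (g : T ⟶ M),
        (∃ t : T ⟶ H, t ≫ h = g) ↔ ∃ t' : T ⟶ H', t' ≫ c = g ≫ r := by
  have i2 := hs.homQ
  have i3 := hs.ftQ
  have hHft : LocallyOfFiniteType H.hom := by rw [← Over.w h]; infer_instance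
  have hHqc : QuasiCompact H.hom := by rw [← Over.w h]; infer_instance
  have hhm : Mono h := Books.AlgPtsGrp.mono_of_isClosedImmersion h
  obtain ⟨C, _, a, c, ha, hc, hac, haf, has, half, hcc⟩ := exists_image (h ≫ r)
  have hCft : LocallyOfFiniteType C.hom := by rw [← Over.w c]; infer_instance
  have haq : QuasiCompact a.left := Pts.quasiCompact_left _
  refine ⟨C, _, c, hc, hcc, fun {T} g => ⟨?_, ?_⟩⟩
  · rintro ⟨t, rfl⟩
    exact ⟨t ≫ a, by rw [Category.assoc, hac, Category.assoc]⟩
  · rintro ⟨t, ht⟩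
    obtain ⟨T', e, y, h1, h2, h3, h4⟩ := exists_cover a t
    have h5 : ((e ≫ g) * (y ≫ h)⁻¹) ≫ r = toUnit T' ≫ η[R] := by
      have : (y ≫ h) ≫ r = e ≫ g ≫ r := by
        rw [Category.assoc, ← hac, ← Category.assoc, h4, Category.assoc, ht]
      have h6 : ((e ≫ g) * (y ≫ h)⁻¹) ≫ r = 1 := by
        rw [MonObj.mul_comp, GrpObj.inv_comp, this, Category.assoc, mul_inv_cancel]
      exact h6
    have h6 : hs.ker.lift _ _ h5 ≫ n = (e ≫ g) * (y ≫ h)⁻¹ := hs.ker.lift_fst _ _ _
    refine exists_fac_of_cover e h g ((hs.ker.lift _ _ h5 ≫ f) * y) ?_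
    rw [MonObj.mul_comp, Category.assoc, hf, h6, inv_mul_cancel_right]

end ant

section line

open CoactBr K690.EqMat K690.GLnRep Groth.Agent.Books.CoeffMat Groth.Agent.Books.AffBridge
  Groth.Agent.Books.AffBridge2

variable {k : Type u} [Field k]

/-- The matrix representation given by a multiplicative matrix. -/
noncomputable def multRep {A : Type u} [CommRing A] [HopfAlgebra k A] {n : ℕ} {m : Matrix (Fin n) (Fin n) A}
    (hm : IsMult k m) : MatRep k (sp k A) n where
  c g := m.map (alg g)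
  c_map f g := by
    ext i j
    change f (alg g (m i j)) = alg (pt f ≫ g) (m i j)
    rw [alg_comp]
    rfl
  c_one {C} _ _ := by
    ext i j
    change alg (1 : sp k C ⟶ sp k A) (m i j) = _
    rw [alg_one, AlgHom.comp_apply]
    change algebraMap k C (CoalgebraStruct.counit (R := k) (m i j)) = _
    rw [hm.counit, Matrix.one_apply]
    split_ifs <;> simp
  c_mul g h := by
    ext i j
    rw [Matrix.mul_apply]
    change alg (g * h) (m i j) = ∑ l, alg g (m i l) * alg h (m l j)
    rw [alg_mul, AlgHom.comp_apply]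
    change Algebra.TensorProduct.lift (alg g) (alg h) _
      (CoalgebraStruct.comul (R := k) (m i j)) = _
    rw [hm.comul, map_sum]
    exact Finset.sum_congr rfl fun l _ => by simp

/-- Chevalley: closed subgroups of affine groups are stabilisers of lines. -/
theorem exists_line_affine (R H : Over (Spec (CommRingCat.of k))) [GrpObj R] [GrpObj H] [IsAffine R.left]
    [LocallyOfFiniteType R.hom] (c : H ⟶ R) [IsMonHom c] [IsClosedImmersion c.left] :
    ∃ (n : ℕ) (ρ : MatRep k R (n + 1)) (v : Fin (n + 1) → k), v ≠ 0 ∧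
      ∀ (C : Type u) [CommRing C] [Algebra k C] (g : sp k C ⟶ R),
        (∃ g' : sp k C ⟶ H, g' ≫ c = g) ↔
          ∃ c : C, (ρ.c g).mulVec (fun j => algebraMap k C (v j)) = c • fun j => algebraMap k C (v j) := by
  obtain ⟨A, _, _, _, e, he⟩ := K399.HopfDom.exists_hopf_ft R
  have hce : IsClosedImmersion (c ≫ e.hom).left := by
    have : IsIso e.hom.left := K399.HopfDom.isIso_left e
    rw [Over.comp_left]; infer_instance
  obtain ⟨I, hI, e', he', hE⟩ := exists_hopfIdeal k (c ≫ e.hom)
  obtain ⟨n, m, v, hm, ⟨j₀, hj₀⟩, H1⟩ := Groth.Agent.AlgGrp.K408.ChevMat.exists_matrix k A I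
  obtain _ | n := n
  · exact j₀.elim0
  refine ⟨n, restr e.hom (multRep hm), v, fun h => hj₀ (congrFun h j₀), fun C _ _ g => ?_⟩
  have H2 : (∃ g' : sp k C ⟶ H, g' ≫ c = g) ↔ ∀ a ∈ I, alg (g ≫ e.hom) a = 0 := by
    constructor
    · rintro ⟨g', rfl⟩ a ha
      have h1 : (g' ≫ c) ≫ e.hom = (g' ≫ e'.hom) ≫ specMap k (Ideal.Quotient.mkₐ k I) := by
        rw [Category.assoc, Category.assoc, hE]
      have h2 : alg ((g' ≫ c) ≫ e.hom) = (alg (g' ≫ e'.hom)).comp (Ideal.Quotient.mkₐ k I) := by
        apply pt_injective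
        rw [pt_alg, pt_comp, pt_alg, h1]
        rfl
      rw [h2, AlgHom.comp_apply, Ideal.Quotient.mkₐ_eq_mk, Ideal.Quotient.eq_zero_iff_mem.2 ha, map_zero]
    · intro h
      have h2 : (Ideal.Quotient.liftₐ I (alg (g ≫ e.hom)) h).comp (Ideal.Quotient.mkₐ k I) = alg (g ≫ e.hom) :=
        Ideal.Quotient.liftₐ_comp I _ h
      refine ⟨pt (Ideal.Quotient.liftₐ I (alg (g ≫ e.hom)) h) ≫ e'.inv, ?_⟩
      rw [← cancel_mono e.hom, Category.assoc, Category.assoc, ← hE, Iso.inv_hom_id_assoc]
      have h3 := congrArg pt h2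
      rw [pt_comp, pt_alg] at h3
      exact h3
  rw [H2, H1]
  refine exists_congr fun x => ?_
  constructor
  · intro h
    funext j
    have h1 := h j
    change ∑ l, alg (g ≫ e.hom) (m j l) * algebraMap k C (v l) = x * algebraMap k C (v j)
    rw [Algebra.smul_def] at h1
    rw [mul_comm x, ← h1]
    exact Finset.sum_congr rfl fun l _ => by rw [Algebra.smul_def, mul_comm]
  · intro h j
    have h1 := congrFun h j
    change ∑ l, alg (g ≫ e.hom) (m j l) * algebraMap k C (v l) = x * algebraMap k C (v j) at h1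
    rw [Algebra.smul_def, mul_comm _ x, ← h1]
    exact Finset.sum_congr rfl fun l _ => by rw [Algebra.smul_def, mul_comm]

/-- **A line with stabiliser `H` in a representation of `M`**, `N` an affine normal subgroup of `M`, `H` a closed subgroup
mapping faithfully flatly onto `M / N`. -/
theorem exists_line (M N H P : Over (Spec (CommRingCat.of k))) [GrpObj M] [GrpObj N]
    [GrpObj H] [GrpObj P] [LocallyOfFiniteType M.hom] [QuasiCompact M.hom] [LocallyOfFiniteType P.hom]
    (i : N ⟶ M) (q : M ⟶ P) (h : H ⟶ M) [IsMonHom i] [IsMonHom q] [IsMonHom h] [IsClosedImmersion h.left]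
    [IsClosedImmersion i.left] (hi : AlgGrp.IsKernel i q) [IsAffine N.left] [Flat (h ≫ q).left]
    [Surjective (h ≫ q).left] :
    ∃ (n : ℕ) (ρ : MatRep k M (n + 1)) (v : Fin (n + 1) → k), v ≠ 0 ∧
      ∀ (C : Type u) [CommRing C] [Algebra k C] (g : sp k C ⟶ M),
        (∃ g' : sp k C ⟶ H, g' ≫ h = g) ↔
          ∃ c : C, (ρ.c g).mulVec (fun j => algebraMap k C (v j)) = c • fun j => algebraMap k C (v j) := by
  obtain ⟨Ma, R, _, _, a, r, hs⟩ := Affin.exists_affSeq M
  have i1 := hs.homQ
  have i2 := hs.affine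
  have i3 := hs.ftQ
  obtain ⟨f, hf⟩ := exists_fac_ant i q h hi hs
  obtain ⟨H', _, c, hc, hcc, hH'⟩ := exists_sub h hs f hf
  obtain ⟨n, ρ, v, hv, H1⟩ := exists_line_affine R H' c
  exact ⟨n, restr r ρ, v, hv, fun C _ _ g => (hH' g).trans (H1 C (g ≫ r))⟩

end line

end K398.LineStab
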