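import Groth.Agent.AGF.K492.QuotImm
import Groth.Agent.AGF.K492.QuotMono
import Groth.Agent.Agf.H584.QBasic
import Groth.Agent.AlgGrp.K414.OrbitRed
import Groth.Agent.Books.BorelOrb2

/-!
# The closure of an orbit

A homogeneous space `G/H` which is the orbit of a rational point of a `G`-scheme `W` of finite type is an open subscheme of
a closed `G`-stable subscheme of `W` (over any field, `G` of finite type, not necessarily smooth).
-/

set_option autoImplicit false
universe u
open CategoryTheory CategoryTheory.Limits MonoidalCategory CartesianMonoidalCategory MonObj GrpObj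
  AlgebraicGeometry

namespace K398.OrbClo

open Groth.Agent.Agf.H584.QBasic

/-- The square of `G ◁ u` over `u`. -/
theorem isPullback_whiskerLeft {S : Scheme.{u}} (G : Over S) {X Y : Over S} (u : X ⟶ Y) :
    IsPullback (G ◁ u) (snd G X) (snd G Y) u := by
  refine ⟨⟨whiskerLeft_snd _ _⟩, ⟨Limits.PullbackCone.IsLimit.mk _
    (fun c => lift (c.fst ≫ fst G Y) c.snd) ?_ ?_ ?_⟩⟩
  · intro c
    apply CartesianMonoidalCategory.hom_ext
    · simp
    · simpa using c.condition.symm
  · intro c
    exact lift_snd _ _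
  · intro c m h4 h5
    apply CartesianMonoidalCategory.hom_ext
    · rw [lift_fst, ← h4, Category.assoc, whiskerLeft_fst]
    · rw [lift_snd, h5]

variable {k : Type u} [Field k]

/-- A quasi-compact schematically dominant morphism stays so after multiplication with `G`. -/
theorem dominant_whiskerLeft (G : Over (Spec (CommRingCat.of k))) {X Y : Over (Spec (CommRingCat.of k))} (u : X ⟶ Y)
    [QuasiCompact u.left] [IsSchemeTheoreticallyDominant u.left] :
    IsSchemeTheoreticallyDominant (G ◁ u).left := by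
  have h4 : IsPullback (G ◁ u).left (snd G X).left (snd G Y).left u.left :=
    (isPullback_whiskerLeft G u).map (Over.forget _)
  have h5 : Flat (snd G Y).left := inferInstanceAs (Flat (pullback.snd G.hom Y.hom))
  exact IsSchemeTheoreticallyDominant.of_isPullback h4.flip

theorem ker_comp_of_dominant {X Y Z : Scheme.{u}} (f : X ⟶ Y) [IsSchemeTheoreticallyDominant f] (g : Y ⟶ Z) :
    (f ≫ g).ker = g.ker := by
  rw [← Scheme.IdealSheafData.map_ker f g, f.ker_eq_bot, Scheme.IdealSheafData.map_bot]

/-- An action on `X₀` and an equivariant morphism to `W` give an action on the schematic image. -/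
theorem exists_action_image {G X₀ W : Over (Spec (CommRingCat.of k))} [GrpObj G] (a₀ : AlgGrp.Action G X₀)
    (aW : AlgGrp.Action G W) (v : X₀ ⟶ W) (hv : (G ◁ v) ≫ aW.act = a₀.act ≫ v) [QuasiCompact v.left] :
    ∃ (X : Over (Spec (CommRingCat.of k))) (a : AlgGrp.Action G X) (u : X₀ ⟶ X) (i : X ⟶ W),
      IsClosedImmersion i.left ∧ u ≫ i = v ∧ (G ◁ i) ≫ aW.act = a.act ≫ i ∧ (G ◁ u) ≫ a.act = a₀.act ≫ u ∧
      (IsImmersion v.left → IsOpenImmersion u.left) ∧ u.left.ker = ⊥ := by
  let X : Over (Spec (CommRingCat.of k)) := Over.mk (v.left.imageι ≫ W.hom)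
  let i : X ⟶ W := Over.homMk v.left.imageι rfl
  let u : X₀ ⟶ X := Over.homMk v.left.toImage (by
    dsimp [X]; rw [Scheme.Hom.toImage_imageι_assoc, Over.w])
  have hui : u ≫ i = v := by ext1; exact v.left.toImage_imageι
  have hcl : IsClosedImmersion i.left := inferInstanceAs (IsClosedImmersion v.left.imageι)
  have hmi : Mono i := by
    have : Mono i.left := inferInstance
    exact Over.mono_of_mono_left i
  have hdu : IsSchemeTheoreticallyDominant u.left :=
    inferInstanceAs (IsSchemeTheoreticallyDominant v.left.toImage)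
  have hqu : QuasiCompact u.left := by
    have : QuasiCompact (u.left ≫ i.left) := by
      rw [← Over.comp_left, hui]; infer_instance
    exact QuasiCompact.of_comp u.left i.left
  have hdG : IsSchemeTheoreticallyDominant (G ◁ u).left := dominant_whiskerLeft G u
  have hker : i.left.ker ≤ ((G ◁ i) ≫ aW.act).left.ker := by
    have h1 : (G ◁ u).left ≫ ((G ◁ i) ≫ aW.act).left = a₀.act.left ≫ v.left := by
      rw [← Over.comp_left, ← Over.comp_left, ← whiskerLeft_comp_assoc, hui, hv]
    rw [← ker_comp_of_dominant (G ◁ u).left, h1]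
    have h2 : i.left.ker = v.left.ker := by
      rw [← hui, Over.comp_left, ker_comp_of_dominant]
    rw [h2]
    exact a₀.act.left.le_ker_comp v.left
  let act : G ⊗ X ⟶ X := Over.homMk (IsClosedImmersion.lift i.left ((G ◁ i) ≫ aW.act).left hker) (by
    have h1 := IsClosedImmersion.lift_fac i.left ((G ◁ i) ≫ aW.act).left hker
    rw [← Over.w i, reassoc_of% h1, Over.w])
  have hact : act ≫ i = (G ◁ i) ≫ aW.act := by
    ext1
    exact IsClosedImmersion.lift_fac i.left ((G ◁ i) ≫ aW.act).left hker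
  have key : ∀ {T : Over (Spec (CommRingCat.of k))} (g : T ⟶ G) (x : T ⟶ X),
      (lift g x ≫ act) ≫ i = lift g (x ≫ i) ≫ aW.act := by
    intro T g x
    rw [Category.assoc, hact, ← Category.assoc, lift_whiskerLeft]
  let a : AlgGrp.Action G X := K414.OrbitRed.mkAction act
    (fun x => by rw [← cancel_mono i, key, K414.OrbitRed.lift_one_act])
    (fun g h x => by rw [← cancel_mono i, key, key, key, K414.OrbitRed.lift_mul_act])
  refine ⟨X, a, u, i, hcl, hui, hact.symm, ?_, ?_, u.left.ker_eq_bot⟩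
  · rw [← cancel_mono i]
    change ((G ◁ u) ≫ act) ≫ i = (a₀.act ≫ u) ≫ i
    rw [Category.assoc, hact, ← whiskerLeft_comp_assoc, Category.assoc, hui, hv]
  · intro hv'
    exact inferInstanceAs (IsOpenImmersion v.left.toImage)

/-- **The orbit of a rational point with stabiliser `H` is `G/H`, open in its closure, which is stable.** -/
theorem exists_orbit_closure {G H X₀ W : Over (Spec (CommRingCat.of k))} [GrpObj G] [GrpObj H]
    [LocallyOfFiniteType G.hom] [QuasiCompact G.hom] (h : H ⟶ G) [IsMonHom h] [IsClosedImmersion h.left]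
    (a₀ : AlgGrp.Action G X₀) (o : 𝟙_ (Over (Spec (CommRingCat.of k))) ⟶ X₀) (hq : AGF.IsQuotient h X₀ a₀ o)
    [LocallyOfFiniteType W.hom] [QuasiCompact W.hom] [IsSeparated W.hom] (aW : AlgGrp.Action G W)
    (w : 𝟙_ (Over (Spec (CommRingCat.of k))) ⟶ W)
    (hstab : ∀ (T : Over (Spec (CommRingCat.of k))) (g : T ⟶ G),
      lift g (toUnit T ≫ w) ≫ aW.act = toUnit T ≫ w ↔ ∃ t : T ⟶ H, t ≫ h = g) :
    ∃ (X : Over (Spec (CommRingCat.of k))) (a : AlgGrp.Action G X) (u : X₀ ⟶ X) (i : X ⟶ W),
      IsClosedImmersion i.left ∧ (G ◁ i) ≫ aW.act = a.act ≫ i ∧ IsOpenImmersion u.left ∧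
      (G ◁ u) ≫ a.act = a₀.act ≫ u ∧ u.left.ker = ⊥ := by
  have hQ := isQ_of_isQuotient hq
  have hfl := hQ.flat
  have hsu := hQ.surj
  have hqc := hQ.qc
  have hlft : LocallyOfFiniteType X₀.hom := hq.1
  have hepi : Epi (a₀.orbitMap o) := epi_of _
  -- the fibres of the orbit map of `w`
  have hw : ∀ {T : Over (Spec (CommRingCat.of k))} (g g' : T ⟶ G), g ≫ aW.orbitMap w = g' ≫ aW.orbitMap w ↔
      g ≫ a₀.orbitMap o = g' ≫ a₀.orbitMap o := by
    intro T g g'
    rw [hQ.eq_iff, K492.Act.orbit_eq_iff]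
    constructor
    · intro h1
      obtain ⟨t, ht⟩ := (hstab T (g⁻¹ * g')).1 (by rw [← K492.Act.comp_orbitMap]; exact h1)
      exact ⟨t, by rw [ht, mul_inv_cancel_left]⟩
    · rintro ⟨t, rfl⟩
      rw [inv_mul_cancel_left, K492.Act.comp_orbitMap]
      exact (hstab T (t ≫ h)).2 ⟨t, rfl⟩
  obtain ⟨v, hv⟩ := exists_desc (a₀.orbitMap o) (aW.orbitMap w) (fun g g' hg => (hw g g').2 hg)
  have hmono : Mono v := K492.QuotMono.mono_of_eq_iff (a₀.orbitMap o) v (fun g g' hg => by
    rw [hv] at hg; exact (hw g g').1 hg)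
  have hequiv : (G ◁ v) ≫ aW.act = a₀.act ≫ v := by
    have e1 : Flat (G ◁ a₀.orbitMap o).left := K492.QuotTower.of_whiskerLeft @Flat G _ hfl
    have e2 : Surjective (G ◁ a₀.orbitMap o).left := K492.QuotTower.of_whiskerLeft @Surjective G _ hsu
    have e3 : QuasiCompact (G ◁ a₀.orbitMap o).left := K492.QuotTower.of_whiskerLeft @QuasiCompact G _ hqc
    have e4 : Epi (G ◁ a₀.orbitMap o) := epi_of _
    rw [← cancel_epi (G ◁ a₀.orbitMap o), ← whiskerLeft_comp_assoc, hv, ← K414.OrbitRed.mu_orbitMap,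
      ← Category.assoc, ← K414.OrbitRed.mu_orbitMap, Category.assoc, hv]
  have himm : IsImmersion v.left := K492.QuotImm.isImmersion aW a₀ o hsu v hequiv
  have hqX : QuasiCompact X₀.hom := by
    have h1 : CompactSpace G.left := QuasiCompact.compactSpace_of_compactSpace G.hom
    have h2 : CompactSpace X₀.left :=
      ((a₀.orbitMap o).left.surjective).compactSpace (a₀.orbitMap o).left.continuous
    exact (quasiCompact_iff_compactSpace X₀.hom).2 h2
  have hqv : QuasiCompact v.left := quasiCompact_left v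
  obtain ⟨X, a, u, i, h1, h2, h3, h4, h5, h6⟩ := exists_action_image a₀ aW v hequiv
  exact ⟨X, a, u, i, h1, h3, h5 himm, h4, h6⟩

end K398.OrbClo
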