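import Groth.Agent.AlgGrp.K398.Pts
import Groth.Agent.Sga3.H794.ChevClosed
import Groth.Agent.Sga3.H794.ChevProper
import Groth.Agent.Sga3.H780.RigidProper
import Groth.Agent.S0383

/-!
# Multiplication by `n` on anti-affine groups is surjective
-/

set_option autoImplicit false
universe u
open CategoryTheory MonoidalCategory CartesianMonoidalCategory MonObj GrpObj AlgebraicGeometry
  CategoryTheory.Limits

namespace K398.PowSurj

open Groth.Agent Groth.Agent.Books.AlgPts K398.Pts

variable {k : Type u} [Field k]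

/-- The power map of a commutative group is a homomorphism. -/
theorem isMonHom_pow {G : Over (Spec (CommRingCat.of k))} [GrpObj G] [IsCommMonObj G] (n : ℕ) :
    IsMonHom ((𝟙 G : G ⟶ G) ^ n) := by
  refine ⟨?_, ?_⟩
  · rw [MonObj.comp_pow, Category.comp_id]
    have h : (η[G] : 𝟙_ (Over (Spec (CommRingCat.of k))) ⟶ G) = 1 := one_eq_one G
    rw [h, one_pow]
  · have h1 : μ[G] = (fst G G) * (snd G G) := by
      rw [Hom.mul_def, lift_fst_snd, Category.id_comp]
    rw [MonObj.comp_pow, Category.comp_id, h1, mul_pow]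
    rw [Hom.mul_def]
    congr 1
    ext1
    · rw [lift_fst, tensorHom_fst, MonObj.comp_pow, Category.comp_id]
    · rw [lift_snd, tensorHom_snd, MonObj.comp_pow, Category.comp_id]

/-- The power maps commute with homomorphisms. -/
theorem pow_comp_hom {G H : Over (Spec (CommRingCat.of k))} [GrpObj G] [GrpObj H] (f : G ⟶ H) [IsMonHom f]
    (n : ℕ) : ((𝟙 G : G ⟶ G) ^ n) ≫ f = f ≫ ((𝟙 H : H ⟶ H) ^ n) := by
  rw [MonObj.pow_comp, MonObj.comp_pow, Category.id_comp, Category.comp_id]

variable [IsAlgClosed k]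

/-- An abelian variety killed by `n ≥ 1` is trivial. -/
theorem isIso_hom_of_pow_eq_one {B : Over (Spec (CommRingCat.of k))} [GrpObj B] [IsProper B.hom]
    [Smooth B.hom] [ConnectedSpace B.left] (n : ℕ) (hn : 1 ≤ n) (h : (𝟙 B : B ⟶ B) ^ n = 1) :
    IsIso B.hom := by
  have hgi := Sga3.H794.ChevProper.geometricallyIntegral B
  have h1 := S0383.result k B n hn
  rw [h] at h1
  apply isIso_hom_of_points
  intro x
  obtain ⟨y, hy⟩ := exists_lift (1 : B ⟶ B) x
  rw [← hy, MonObj.comp_one]

/-- **Anti-affine groups are divisible**: the `n`-th power map is surjective. -/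
theorem surjective_pow {M : Over (Spec (CommRingCat.of k))} [GrpObj M] [LocallyOfFiniteType M.hom]
    [QuasiCompact M.hom] [IsIso M.hom.appTop] (n : ℕ) (hn : 1 ≤ n) : Surjective ((𝟙 M : M ⟶ M) ^ n).left := by
  have hO := K398.AntiAff.bijective_of_isIso (G := M) inferInstance
  have hM1 := S3026.result k M hO
  obtain ⟨hM2, hM3⟩ := S3293.result k M hO
  have hu : IsMonHom ((𝟙 M : M ⟶ M) ^ n) := isMonHom_pow n
  obtain ⟨C, _, p, c, hp, hc, hpc, hpf, hps, hplf, hcc⟩ := exists_image ((𝟙 M : M ⟶ M) ^ n)
  have hCft : LocallyOfFiniteType C.hom := by rw [← Over.w c]; infer_instance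
  have hcm : Mono c := Books.AlgPtsGrp.mono_of_isClosedImmersion c
  have hcn : AlgGrp.IsNormalHom c := by
    intro T g x
    refine ⟨x, ?_⟩
    have : g * (x ≫ c) = (x ≫ c) * g := mul_comm g (x ≫ c)
    rw [this, mul_inv_cancel_right]
  obtain ⟨R, _, r, hr1, hr2, hr3, hr4, hr5, hr6, hr7, hr8⟩ := S3030.result k C M c hcn
  have hRs : Smooth R.hom := hr8 hM1
  have hRq : QuasiCompact R.hom := quasiCompact_of_surjective r
  have hRc : ConnectedSpace R.left := connectedSpace_of_surjective r
  have hRaa : IsIso R.hom.appTop := isIso_appTop_of_flat_surjective r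
  have hrq : QuasiCompact r.left := quasiCompact_left r
  have hre : Epi r := by
    have : Epi r.left := inferInstance
    exact Over.epi_of_epi_left r
  have hRn : (𝟙 R : R ⟶ R) ^ n = 1 := by
    rw [← cancel_epi r, ← pow_comp_hom, ← hpc, Category.assoc, hr5.w, ← Category.assoc]
    rw [toUnit_unique (p ≫ toUnit C) (toUnit M), MonObj.comp_one]
    rfl
  -- Chevalley for `R`
  obtain ⟨L, _, l, B, _, b, h1, h2, h3, h4, h5, h6, h7, h8, h9, h10, h11, h12, h13⟩ :=
    Sga3.H794.ChevClosed.exists_chevalley k R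
  have hbq : QuasiCompact b.left := quasiCompact_left b
  have hbe : Epi b := by
    have : Epi b.left := inferInstance
    exact Over.epi_of_epi_left b
  have hBn : (𝟙 B : B ⟶ B) ^ n = 1 := by
    rw [← cancel_epi b, ← pow_comp_hom, hRn, MonObj.one_comp, MonObj.comp_one]
  have hBt : IsIso B.hom := isIso_hom_of_pow_eq_one n hn hBn
  have hli : IsIso l := isIso_of_isKernel l b h10 hBt
  have hRa : IsAffine R.left := by
    have : IsIso l.left := inferInstanceAs (IsIso ((Over.forget _).map l))
    have : IsIso (inv l.left) := inferInstance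
    exact IsAffine.of_isIso (inv l.left)
  have hRt : IsIso R.hom := isIso_hom_of_affine_antiAffine hRaa
  have hci : IsIso c := isIso_of_isKernel c r hr5 hRt
  have : IsIso c.left := inferInstanceAs (IsIso ((Over.forget _).map c))
  rw [← hpc, Over.comp_left]
  infer_instance

end K398.PowSurj
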