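import Groth.Agent.AlgGrp.K398.Pts
import Groth.Agent.AlgGrp.K395.Pts
import Groth.Agent.SGA3.K204.Neutral
import Groth.Agent.SGA3.K206.Comm

/-!
# From an almost complement to a connected one
-/

set_option autoImplicit false
universe u
open CategoryTheory MonoidalCategory CartesianMonoidalCategory MonObj GrpObj AlgebraicGeometry
  CategoryTheory.Limits

namespace K398.QuasiCompl

open Groth.Agent

variable {k : Type u} [Field k]

/-- The neutral component of a normal subgroup is normal. -/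
theorem isNormalHom_neutral {G N N₀ : Over (Spec (CommRingCat.of k))} [GrpObj G] [GrpObj N] [GrpObj N₀]
    (i : N ⟶ G) [IsMonHom i] [Mono i] (hN : AlgGrp.IsNormalHom i) (n₀ : N₀ ⟶ N) [IsMonHom n₀]
    [IsOpenImmersion n₀.left] (s : Spec (CommRingCat.of k))
    (h₀ : Set.range n₀.left = connectedComponent (K204.Neutral.e N s)) : AlgGrp.IsNormalHom (n₀ ≫ i) := by
  have hsub : Subsingleton (Spec (CommRingCat.of k)) := inferInstanceAs (Subsingleton (PrimeSpectrum k))
  have hn : SGA3x.neutralSet N = Set.range n₀.left := by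
    rw [K204.Neutral.neutralSet_of_subsingleton N s, h₀]
  intro T g n
  obtain ⟨ψ, hψ⟩ := hN (T ⊗ N) (fst T N ≫ g) (snd T N)
  have key : ∀ y : T ⟶ N, (lift (𝟙 T) y ≫ ψ) ≫ i = g * (y ≫ i) * g⁻¹ := by
    intro y
    rw [Category.assoc, ← hψ, MonObj.comp_mul, MonObj.comp_mul, GrpObj.comp_inv, lift_fst_assoc, lift_snd_assoc,
      Category.id_comp]
  have hr : Set.range (lift (𝟙 T) (n ≫ n₀) ≫ ψ).left ⊆ Set.range n₀.left := by
    rintro _ ⟨t, rfl⟩
    rw [← hn]
    refine K204.Neutral.comp_mem ψ 1 (n ≫ n₀) t (K204.Neutral.one_mem t) ?_ ?_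
    · rw [hn, Over.comp_left, Scheme.Hom.comp_apply]
      exact ⟨_, rfl⟩
    · have : lift (𝟙 T) (1 : T ⟶ N) ≫ ψ = 1 := by
        rw [← cancel_mono i, key, MonObj.one_comp, _root_.mul_one, mul_inv_cancel]
      rw [this]
      exact K204.Neutral.one_mem t
  let n' : T ⟶ N₀ := Over.homMk (IsOpenImmersion.lift n₀.left (lift (𝟙 T) (n ≫ n₀) ≫ ψ).left hr) (by
    rw [← Over.w n₀, ← Category.assoc, IsOpenImmersion.lift_fac, Over.w])
  have hn' : n' ≫ n₀ = lift (𝟙 T) (n ≫ n₀) ≫ ψ := by
    apply Over.OverMorphism.ext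
    exact IsOpenImmersion.lift_fac _ _ _
  refine ⟨n', ?_⟩
  rw [← Category.assoc n', hn', key, Category.assoc]

/-- A homomorphism with open image to a connected group is surjective. -/
theorem surjective_of_isOpen_range {G H : Over (Spec (CommRingCat.of k))} [GrpObj G] [GrpObj H]
    [LocallyOfFiniteType G.hom] [LocallyOfFiniteType H.hom] [QuasiCompact G.hom] [ConnectedSpace H.left]
    (u : G ⟶ H) [IsMonHom u] (ho : IsOpen (Set.range u.left)) : Surjective u.left := by
  obtain ⟨C, _, p, i, h1, h2, h3, h4, h5, h6, h7⟩ := Pts.exists_image u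
  have hr : Set.range u.left = Set.range i.left := by
    rw [← h3]
    change Set.range (p.left ≫ i.left) = _
    ext z
    constructor
    · rintro ⟨x, rfl⟩
      exact ⟨p.left x, by rw [Scheme.Hom.comp_apply]⟩
    · rintro ⟨y, rfl⟩
      obtain ⟨x, rfl⟩ := p.left.surjective y
      exact ⟨x, by rw [Scheme.Hom.comp_apply]⟩
  have hc : IsClosed (Set.range u.left) := by
    rw [hr]
    exact i.left.isClosedEmbedding.isClosed_range
  have hne : (Set.range u.left).Nonempty := by
    have : Nonempty G.left := ⟨η[G].left (IsLocalRing.closedPoint k)⟩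
    exact Set.range_nonempty _
  have huniv := IsClopen.eq_univ ⟨hc, ho⟩ hne
  exact ⟨Set.range_eq_univ.1 huniv⟩

/-- The product map of two commuting homomorphisms is a homomorphism. -/
theorem isMonHom_mul {G A N : Over (Spec (CommRingCat.of k))} [GrpObj G] [GrpObj A] [GrpObj N] (i : A ⟶ G)
    [IsMonHom i] (j : N ⟶ G) [IsMonHom j]
    (hc : ∀ (T : Over (Spec (CommRingCat.of k))) (a : T ⟶ A) (n : T ⟶ N), (a ≫ i) * (n ≫ j) = (n ≫ j) * (a ≫ i)) :
    IsMonHom ((i ⊗ₘ j) ≫ μ[G]) := by
  have hp : ∀ {T : Over (Spec (CommRingCat.of k))} (x : T ⟶ A ⊗ N), x ≫ (i ⊗ₘ j) ≫ μ[G] =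
      (x ≫ fst A N ≫ i) * (x ≫ snd A N ≫ j) := by
    intro T x
    rw [Hom.mul_def, ← Category.assoc]
    congr 1
    ext1 <;> simp
  apply K395.Pts.isMonHom_of_pts
  intro T x y
  rw [hp, hp, hp, MonObj.mul_comp, MonObj.mul_comp]
  have h1 := hc T (y ≫ fst A N) (x ≫ snd A N)
  rw [Category.assoc, Category.assoc] at h1
  rw [_root_.mul_assoc, _root_.mul_assoc, ← _root_.mul_assoc (y ≫ fst A N ≫ i), h1]
  simp only [_root_.mul_assoc]

/-- The neutral component of an almost complement is an almost complement. -/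
theorem exists_conn (G A N : Over (Spec (CommRingCat.of k))) [GrpObj G] [GrpObj A] [GrpObj N]
    [LocallyOfFiniteType G.hom] [QuasiCompact G.hom] [ConnectedSpace G.left] [LocallyOfFiniteType A.hom]
    [QuasiCompact A.hom] (i : A ⟶ G) [IsMonHom i] [IsClosedImmersion i.left] (j : N ⟶ G) [IsMonHom j]
    [IsClosedImmersion j.left] (hN : AlgGrp.IsNormalHom j)
    (hc : ∀ (T : Over (Spec (CommRingCat.of k))) (a : T ⟶ A) (n : T ⟶ N), (a ≫ i) * (n ≫ j) = (n ≫ j) * (a ≫ i))
    (hflat : Flat ((i ⊗ₘ j) ≫ μ[G]).left)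
    (hfin : IsFinite (pullback.fst i.left j.left ≫ A.hom)) (hsm : Smooth N.hom) :
    ∃ (H : Over (Spec (CommRingCat.of k))) (_ : GrpObj H) (h : H ⟶ G), IsMonHom h ∧ IsClosedImmersion h.left ∧
      Smooth H.hom ∧ ConnectedSpace ↥H.left ∧ AlgGrp.IsNormalHom h ∧ Surjective ((i ⊗ₘ h) ≫ μ[G]).left ∧
      IsFinite (pullback.fst i.left h.left ≫ A.hom) := by
  have hNq : QuasiCompact N.hom := by rw [← Over.w j]; infer_instance
  obtain ⟨N₀, _, n₀, hn1, hn2, hn3, hn4, hn5, hn6⟩ := K206.Comm.exists_neutral N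
  have hj : Mono j := Books.AlgPtsGrp.mono_of_isClosedImmersion j
  have hNn := isNormalHom_neutral j hN n₀ (IsLocalRing.closedPoint k) (hn6 _)
  have hcl : IsClosedImmersion (n₀ ≫ j).left := by rw [Over.comp_left]; infer_instance
  have hNs : Smooth N₀.hom := by rw [← Over.w n₀]; infer_instance
  refine ⟨N₀, inferInstance, n₀ ≫ j, inferInstance, hcl, hNs, hn4, hNn, ?_, ?_⟩
  · have hm : IsMonHom ((i ⊗ₘ (n₀ ≫ j)) ≫ μ[G]) := by
      apply isMonHom_mul
      intro T a n
      have := hc T a (n ≫ n₀)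
      rwa [Category.assoc] at this
    have hAN : LocallyOfFiniteType (A ⊗ N).hom := by
      rw [Over.tensorObj_hom]
      infer_instance
    have hAN0 : LocallyOfFiniteType (A ⊗ N₀).hom := by
      rw [Over.tensorObj_hom]
      infer_instance
    have hAN0' : QuasiCompact (A ⊗ N₀).hom := by
      rw [Over.tensorObj_hom]
      infer_instance
    apply surjective_of_isOpen_range
    have he : (i ⊗ₘ (n₀ ≫ j)) ≫ μ[G] = (A ◁ n₀) ≫ ((i ⊗ₘ j) ≫ μ[G]) := by
      rw [← Category.assoc]
      congr 1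
      ext1 <;> simp
    have hG : IsLocallyNoetherian G.left := LocallyOfFiniteType.isLocallyNoetherian G.hom
    have h1 : LocallyOfFiniteType ((i ⊗ₘ j) ≫ μ[G]).left := Pts.locallyOfFiniteType_left _
    have h2 : LocallyOfFinitePresentation ((i ⊗ₘ j) ≫ μ[G]).left :=
      LocallyOfFinitePresentation.iff_locallyOfFiniteType.mpr h1
    have h3 : IsOpenImmersion (A ◁ n₀).left := by
      rw [Over.whiskerLeft_left]
      infer_instance
    have h4 : IsOpenMap ((A ◁ n₀).left ≫ ((i ⊗ₘ j) ≫ μ[G]).left) := by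
      have h5 : IsOpenMap ((i ⊗ₘ j) ≫ μ[G]).left := ((i ⊗ₘ j) ≫ μ[G]).left.isOpenMap
      have h6 : IsOpenMap (A ◁ n₀).left := (A ◁ n₀).left.isOpenEmbedding.isOpenMap
      have h7 : ⇑((A ◁ n₀).left ≫ ((i ⊗ₘ j) ≫ μ[G]).left) = ⇑((i ⊗ₘ j) ≫ μ[G]).left ∘ ⇑(A ◁ n₀).left := by
        funext z
        exact Scheme.Hom.comp_apply _ _ _
      rw [h7]
      exact h5.comp h6
    rw [he, Over.comp_left]
    exact h4.isOpen_range
  · have e1 : IsPullback (pullback.fst (pullback.snd i.left j.left) n₀.left)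
        (pullback.snd (pullback.snd i.left j.left) n₀.left) (pullback.snd i.left j.left) n₀.left :=
      IsPullback.of_hasPullback _ _
    have e2 : IsPullback (pullback.fst i.left j.left) (pullback.snd i.left j.left) i.left j.left :=
      IsPullback.of_hasPullback _ _
    have e3 : IsPullback (pullback.fst (pullback.snd i.left j.left) n₀.left ≫ pullback.fst i.left j.left)
        (pullback.snd (pullback.snd i.left j.left) n₀.left) i.left (n₀ ≫ j).left := by
      have := e1.flip.paste_vert e2.flip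
      exact this.flip
    have e4 : pullback.fst i.left (n₀ ≫ j).left ≫ A.hom = e3.isoPullback.inv ≫
        pullback.fst (pullback.snd i.left j.left) n₀.left ≫ (pullback.fst i.left j.left ≫ A.hom) := by
      rw [← IsPullback.isoPullback_inv_fst e3]
      simp only [Category.assoc]
    rw [e4]
    infer_instance

end K398.QuasiCompl
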