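import Groth.Agent.AlgGrp.K398.AntiRep
import Groth.Prelude.Def_AlgGrp

/-!
# The action of a group on the affine space of a finite free rational module
-/

set_option autoImplicit false
universe u v
open CategoryTheory MonoidalCategory CartesianMonoidalCategory MonObj AlgebraicGeometry
  CategoryTheory.Limits VecGrp
open scoped TensorProduct

namespace K398.RepAct

open K398.AffYon K398.AntiRep

variable {k : Type u} [Field k] {M : Type v} [AddCommGroup M] [Module k M] {n : ℕ}

section vec

variable (b : Module.Basis (Fin n) k M)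

/-- The affine space. -/
noncomputable abbrev Aff (k : Type u) [Field k] (n : ℕ) : Over (Spec (CommRingCat.of k)) :=
  pt k (MvPolynomial (Fin n) k)

/-- Morphisms between spectra and algebra homomorphisms. -/
noncomputable def homEquiv (A B : Type u) [CommRing A] [Algebra k A] [CommRing B] [Algebra k B] :
    (A →ₐ[k] B) ≃ (pt k B ⟶ pt k A) :=
  Equiv.ofBijective ptMap ⟨ptMap_injective, fun h => exists_ptMap h⟩

/-- Algebra homomorphisms from the polynomial ring. -/
noncomputable def evalEquiv (B : Type u) [CommRing B] [Algebra k B] :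
    (MvPolynomial (Fin n) k →ₐ[k] B) ≃ (Fin n → B) where
  toFun φ i := φ (MvPolynomial.X i)
  invFun c := MvPolynomial.aeval c
  left_inv φ := by ext i; simp
  right_inv c := by ext i; simp

/-- Points of the affine space are vectors. -/
noncomputable def toVec (B : Type u) [CommRing B] [Algebra k B] : (pt k B ⟶ Aff k n) ≃ B ⊗[k] M :=
  (homEquiv _ B).symm.trans ((evalEquiv B).trans (b.baseChange B).equivFun.symm.toEquiv)

theorem toVec_ptMap (B : Type u) [CommRing B] [Algebra k B] (φ : MvPolynomial (Fin n) k →ₐ[k] B) :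
    toVec b B (ptMap φ) = ∑ i, φ (MvPolynomial.X i) ⊗ₜ[k] b i := by
  have h1 : (homEquiv (k := k) (MvPolynomial (Fin n) k) B).symm (ptMap φ) = φ :=
    (homEquiv (k := k) (MvPolynomial (Fin n) k) B).symm_apply_apply φ
  change (b.baseChange B).equivFun.symm (evalEquiv B ((homEquiv (k := k) (MvPolynomial (Fin n) k) B).symm (ptMap φ))) = _
  rw [h1, Module.Basis.equivFun_symm_apply]
  refine Finset.sum_congr rfl fun i _ => ?_
  rw [Module.Basis.baseChange_apply, TensorProduct.smul_tmul', smul_eq_mul, _root_.mul_one]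
  rfl

theorem toVec_natural {B B' : Type u} [CommRing B] [Algebra k B] [CommRing B'] [Algebra k B']
    (φ : B →ₐ[k] B') (x : pt k B ⟶ Aff k n) :
    Wmap φ (toVec b B x) = toVec b B' (ptMap φ ≫ x) := by
  obtain ⟨ψ, rfl⟩ := exists_ptMap x
  rw [ptMap_comp, toVec_ptMap, toVec_ptMap, map_sum]
  refine Finset.sum_congr rfl fun i _ => ?_
  rw [Wmap_tmul]
  rfl

theorem symm_natural {B B' : Type u} [CommRing B] [Algebra k B] [CommRing B'] [Algebra k B']
    (φ : B →ₐ[k] B') (v : B ⊗[k] M) :
    ptMap φ ≫ (toVec b B).symm v = (toVec b B').symm (Wmap φ v) := by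
  apply (toVec b B').injective
  rw [← toVec_natural, Equiv.apply_symm_apply, Equiv.apply_symm_apply]

end vec

section act

variable {G : Over (Spec (CommRingCat.of k))} [GrpObj G] (m : GMod G M) (b : Module.Basis (Fin n) k M)

/-- The action on points. -/
noncomputable def fam : NatFam (G ⊗ Aff k n) (Aff k n) where
  τ B _ _ t := (toVec b B).symm (m.ρ B (t ≫ fst G (Aff k n)) (toVec b B (t ≫ snd G (Aff k n))))
  nat := by
    intro B B' _ _ _ _ φ t
    rw [symm_natural, m.naturality, toVec_natural, Category.assoc, Category.assoc]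

/-- The action morphism. -/
noncomputable def actHom : G ⊗ Aff k n ⟶ Aff k n := (exists_hom (fam m b)).choose

theorem comp_actHom (B : Type u) [CommRing B] [Algebra k B] (t : pt k B ⟶ G ⊗ Aff k n) :
    t ≫ actHom m b = (toVec b B).symm (m.ρ B (t ≫ fst G (Aff k n)) (toVec b B (t ≫ snd G (Aff k n)))) :=
  (exists_hom (fam m b)).choose_spec B t

/-- The action. -/
noncomputable def action : AlgGrp.Action G (Aff k n) where
  act := actHom m b
  one_act := by
    apply AffYon.hom_ext
    intro B _ _ t
    rw [← Category.assoc, comp_actHom]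
    have h1 : (t ≫ η[G] ▷ (Aff k n)) ≫ fst G (Aff k n) = 1 := by
      rw [Category.assoc, whiskerRight_fst, ← Category.assoc, Hom.one_def]
      congr 1
      exact toUnit_unique _ _
    have h2 : (t ≫ η[G] ▷ (Aff k n)) ≫ snd G (Aff k n) = t ≫ (λ_ (Aff k n)).hom := by
      rw [Category.assoc, whiskerRight_snd]
      rfl
    rw [h1, h2, map_one]
    exact (toVec b B).symm_apply_apply _
  mul_act := by
    apply AffYon.hom_ext
    intro B _ _ t
    rw [← Category.assoc, comp_actHom]
    have h0 : (t ≫ (α_ G G (Aff k n)).hom ≫ G ◁ actHom m b) ≫ actHom m b =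
        t ≫ (α_ G G (Aff k n)).hom ≫ G ◁ actHom m b ≫ actHom m b := by
      simp only [Category.assoc]
    rw [← h0, comp_actHom]
    congr 1
    have h1 : (t ≫ μ[G] ▷ (Aff k n)) ≫ fst G (Aff k n) = (t ≫ fst _ _ ≫ fst _ _) * (t ≫ fst _ _ ≫ snd _ _) := by
      rw [Category.assoc, whiskerRight_fst, Hom.mul_def, ← Category.assoc]
      congr 1
      ext1 <;> simp
    have h2 : (t ≫ μ[G] ▷ (Aff k n)) ≫ snd G (Aff k n) = t ≫ snd _ _ := by
      rw [Category.assoc, whiskerRight_snd]
    have h3 : (t ≫ (α_ G G (Aff k n)).hom ≫ G ◁ actHom m b) ≫ fst G (Aff k n) = t ≫ fst _ _ ≫ fst _ _ := by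
      simp
    have h4 : (t ≫ (α_ G G (Aff k n)).hom ≫ G ◁ actHom m b) ≫ snd G (Aff k n) =
        lift (t ≫ fst _ _ ≫ snd _ _) (t ≫ snd _ _) ≫ actHom m b := by
      simp only [Category.assoc, whiskerLeft_snd]
      rw [← Category.assoc, ← Category.assoc]
      congr 1
      ext1 <;> simp
    rw [h1, h2, h3, h4, comp_actHom, lift_fst, lift_snd, Equiv.apply_symm_apply, map_mul]
    rfl

/-- The origin. -/
noncomputable def origin : 𝟙_ (Over (Spec (CommRingCat.of k))) ⟶ Aff k n :=
  (exists_hom (X := 𝟙_ (Over (Spec (CommRingCat.of k)))) (Y := Aff k n)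
    { τ := fun B _ _ _ => (toVec b B).symm 0
      nat := by
        intro B B' _ _ _ _ φ g
        rw [symm_natural, map_zero] }).choose

theorem comp_origin (B : Type u) [CommRing B] [Algebra k B] (t : pt k B ⟶ 𝟙_ (Over (Spec (CommRingCat.of k)))) :
    t ≫ origin b = (toVec b B).symm 0 :=
  (exists_hom (X := 𝟙_ (Over (Spec (CommRingCat.of k)))) (Y := Aff k n)
    { τ := fun B _ _ _ => (toVec b B).symm 0
      nat := by
        intro B B' _ _ _ _ φ g
        rw [symm_natural, map_zero] }).choose_spec B t

theorem isFixedPt : (action m b).IsFixedPt (origin b) := by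
  intro T g
  apply AffYon.hom_ext
  intro B _ _ t
  change t ≫ lift g (toUnit T ≫ origin b) ≫ actHom m b = _
  have h1 : t ≫ toUnit T ≫ origin b = (toVec b B).symm 0 := by rw [← Category.assoc, comp_origin]
  have h2 : (t ≫ lift g (toUnit T ≫ origin b)) ≫ snd G (Aff k n) = (toVec b B).symm 0 := by
    rw [Category.assoc, lift_snd, h1]
  rw [← Category.assoc, comp_actHom, h1, h2, Equiv.apply_symm_apply, map_zero]

/-- If the action is trivial then so is the module. -/
theorem rho_eq_one_of_trivial (h : (action m b).act = snd G (Aff k n)) (B : Type u) [CommRing B] [Algebra k B]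
    (g : pt k B ⟶ G) : m.ρ B g = 1 := by
  ext x
  have h1 := comp_actHom m b B (lift g ((toVec b B).symm x))
  have h2 : actHom m b = snd G (Aff k n) := h
  rw [h2, lift_fst, lift_snd, Equiv.apply_symm_apply] at h1
  exact ((toVec b B).symm.injective h1).symm

end act

instance (n : ℕ) : IsIntegral (Aff k n).left :=
  inferInstanceAs (IsIntegral (Spec (CommRingCat.of (MvPolynomial (Fin n) k))))

instance (n : ℕ) : LocallyOfFiniteType (Aff k n).hom := by
  change LocallyOfFiniteType (Spec.map (CommRingCat.ofHom (algebraMap k (MvPolynomial (Fin n) k))))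
  rw [HasRingHomProperty.Spec_iff (P := @LocallyOfFiniteType)]
  change (algebraMap k (MvPolynomial (Fin n) k)).FiniteType
  rw [RingHom.finiteType_algebraMap]
  infer_instance

instance (n : ℕ) : IsSeparated (Aff k n).hom :=
  inferInstanceAs (IsSeparated (Spec.map (CommRingCat.ofHom (algebraMap k (MvPolynomial (Fin n) k)))))

instance (n : ℕ) : QuasiCompact (Aff k n).hom :=
  inferInstanceAs (QuasiCompact (Spec.map (CommRingCat.ofHom (algebraMap k (MvPolynomial (Fin n) k)))))

end K398.RepAct
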