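import Groth.Agent.AlgGrp.K398.RepAct
import Groth.Agent.AlgGrp.K398.Affin
import Groth.Agent.AlgGrp.K398.Pts
import Groth.Agent.AGF.K495.GModPt
import Groth.Agent.Sga3B.RG.BrHc
import Groth.Agent.Sga3B.RG.FaithRep

/-!
# Faithful representations and the affinization sequence
-/

set_option autoImplicit false
universe u v
open CategoryTheory MonoidalCategory CartesianMonoidalCategory MonObj AlgebraicGeometry
  CategoryTheory.Limits VecGrp
open scoped TensorProduct

namespace K398.RepFaith

open K398.AffYon K398.AntiRep K398.Affin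

variable {k : Type u} [Field k]

theorem isIso_toUnit_of_isIso_hom {Q : Over (Spec (CommRingCat.of k))} (hQ : IsIso Q.hom) : IsIso (toUnit Q) := by
  have : IsIso (toUnit Q).left := by
    have h2 : (toUnit Q).left = Q.hom := by simp
    rw [h2]; exact hQ
  have : IsIso ((Over.forget _).map (toUnit Q)) := this
  exact isIso_of_reflects_iso _ (Over.forget _)

theorem isIso_toUnit_pt : IsIso (toUnit (pt k k)) := by
  apply isIso_toUnit_of_isIso_hom
  have h1 : (pt k k).hom = 𝟙 (Spec (CommRingCat.of k)) := Spec.map_id _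
  rw [h1]
  exact IsIso.id _

/-- The two forms of a rational point. -/
noncomputable def unitIso (k : Type u) [Field k] : pt k k ≅ 𝟙_ (Over (Spec (CommRingCat.of k))) :=
  haveI := isIso_toUnit_pt (k := k)
  asIso (toUnit (pt k k))

theorem pt_eq_one {N : Over (Spec (CommRingCat.of k))} [GrpObj N] (h : ∀ g : pt k k ⟶ N, g = 1)
    (x : 𝟙_ (Over (Spec (CommRingCat.of k))) ⟶ N) : x = 1 := by
  have h1 : x = (unitIso k).inv ≫ (unitIso k).hom ≫ x := by rw [Iso.inv_hom_id_assoc]
  rw [h1, h ((unitIso k).hom ≫ x), MonObj.comp_one]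

theorem exists_pt_lift [IsAlgClosed k] {X Y : Over (Spec (CommRingCat.of k))} [LocallyOfFiniteType X.hom]
    [LocallyOfFiniteType Y.hom] (f : X ⟶ Y) [Surjective f.left] (y : pt k k ⟶ Y) :
    ∃ x : pt k k ⟶ X, x ≫ f = y := by
  obtain ⟨x, hx⟩ := Pts.exists_lift f ((unitIso k).inv ≫ y)
  exact ⟨(unitIso k).hom ≫ x, by rw [Category.assoc, hx, Iso.hom_inv_id_assoc]⟩

/-- **An affine group of finite type has a finite-dimensional module which is faithful on rational points.** -/
theorem exists_faithful [IsAlgClosed k] (Q : Over (Spec (CommRingCat.of k))) [GrpObj Q] [IsAffine Q.left]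
    [Smooth Q.hom] : ∃ (W : Type u) (_ : AddCommGroup W) (_ : Module k W) (_ : Module.Finite k W)
      (m : GMod Q W), ∀ p : pt k k ⟶ Q, m.ρ k p = 1 → p = 1 := by
  obtain ⟨A, _, _, e, he, hft⟩ := Groth.Agent.Sga3B.RG.BrHc.exists_hopf_ft Q
  have hred : _root_.IsReduced A := by
    have h1 : IsReduced Q.left := Groth.Agent.Books.AlgPtsSmooth.isReduced_of_smooth Q
    have h2 : IsIso e.inv.left := inferInstanceAs (IsIso ((Over.forget _).map e.inv))
    have h3 : IsReduced (Groth.Agent.Books.AffBridge.SpecOver k A).left := isReduced_of_isOpenImmersion e.inv.left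
    exact (affine_isReduced_iff (CommRingCat.of A)).1 h3
  obtain ⟨W, hfin, hW, hgen⟩ := Groth.Agent.Sga3B.RG.exists_generating_stable k A
  obtain ⟨m, hm⟩ := K495.GModPt.exists_gmod e (Groth.Agent.Sga3B.RG.subRTr W hW)
    (Groth.Agent.Sga3B.RG.isAlg_subRTr hW)
  refine ⟨W, inferInstance, inferInstance, hfin, m, fun p hp => ?_⟩
  apply (K495.Bridge.ptE e k).injective
  rw [map_one]
  apply Groth.Agent.Sga3B.RG.subRTr_injective hW hgen
  rw [map_one, ← hm]
  ext x
  rw [K495.GModPt.rep_def, MulEquiv.symm_apply_apply, hp]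
  simp

/-- A smooth affine group of finite type all of whose finite-dimensional modules are trivial is trivial. -/
theorem isIso_hom_of_forall [IsAlgClosed k] (Q : Over (Spec (CommRingCat.of k))) [GrpObj Q] [IsAffine Q.left]
    [Smooth Q.hom] (h : ∀ (M : Type u) [AddCommGroup M] [Module k M] [Module.Finite k M] (m : GMod Q M)
      (p : pt k k ⟶ Q), m.ρ k p = 1) : IsIso Q.hom := by
  obtain ⟨W, _, _, _, m, hm⟩ := exists_faithful Q
  exact Pts.isIso_hom_of_points (pt_eq_one fun g => hm g (h W m g))

/-- A smooth group of finite type over an algebraically closed field all of whose finite-dimensional modules are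
trivial is anti-affine. -/
theorem isIso_appTop_of_forall [IsAlgClosed k] (G : Over (Spec (CommRingCat.of k))) [GrpObj G] [Smooth G.hom]
    [QuasiCompact G.hom] (h : ∀ (M : Type u) [AddCommGroup M] [Module k M] [Module.Finite k M] (m : GMod G M)
      (p : pt k k ⟶ G), m.ρ k p = 1) : IsIso G.hom.appTop := by
  obtain ⟨N, Q, _, _, n, q, hnq⟩ := exists_affSeq G
  have h1 := hnq.homN
  have h2 := hnq.homQ
  have h3 := hnq.affine
  have h4 := hnq.ftQ
  have h5 := hnq.surj
  have h6 := hnq.flat
  have h7 : Smooth Q.hom := Pts.smooth_of_flat_surjective q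
  have h8 : IsIso Q.hom := by
    apply isIso_hom_of_forall Q
    intro M _ _ _ m p
    obtain ⟨x, rfl⟩ := exists_pt_lift q p
    exact h M (K495.GModPt.res q m) x
  have h9 : IsIso n := Pts.isIso_of_isKernel n q hnq.ker h8
  have h10 := hnq.anti
  have h11 : IsIso n.left := inferInstanceAs (IsIso ((Over.forget _).map n))
  exact Pts.isIso_appTop_of_epi n

/-- A smooth group of finite type over an algebraically closed field with a module which is faithful on rational
points is affine. -/
theorem isAffine_of_faithful [IsAlgClosed k] (G : Over (Spec (CommRingCat.of k))) [GrpObj G] [Smooth G.hom]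
    [QuasiCompact G.hom] (M : Type v) [AddCommGroup M] [Module k M] (m : GMod G M)
    (hfaith : ∀ g : pt k k ⟶ G, m.ρ k g = 1 → g = 1) : IsAffine G.left := by
  obtain ⟨N, Q, _, _, n, q, hnq⟩ := exists_affSeq G
  have h1 := hnq.homN
  have h2 := hnq.homQ
  have h3 := hnq.affine
  have h4 := hnq.ftQ
  have h5 := hnq.surj
  have h6 := hnq.flat
  have h6' := hnq.qc
  have h7 := hnq.smooth
  have h8 := hnq.anti
  have h9 : Mono n := hnq.mono
  have h10 : IsIso N.hom := by
    apply Pts.isIso_hom_of_points
    apply pt_eq_one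
    intro g
    have h11 : m.ρ k (g ≫ n) = 1 := rho_eq_one (K495.GModPt.res n m) k g
    have h12 := hfaith _ h11
    rw [← cancel_mono n, h12, MonObj.one_comp]
  have h11 : ∀ {T : Over (Spec (CommRingCat.of k))} (x : T ⟶ N), x ≫ n = 1 := by
    intro T x
    rw [Pts.eq_of_isIso_hom h10 x 1, MonObj.one_comp]
  have h12 : Mono q := by
    constructor
    intro T x y hxy
    have h13 : (x * y⁻¹) ≫ q = 1 := by
      rw [MonObj.mul_comp, GrpObj.inv_comp, hxy, mul_inv_cancel]
    have hk : IsPullback n (toUnit N) q η[Q] := hnq.ker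
    have hz := hk.lift_fst (x * y⁻¹) (toUnit T) (by rw [h13, Hom.one_def])
    rw [h11] at hz
    exact (mul_inv_eq_one.1 hz.symm)
  have h13 : Mono q.left := inferInstanceAs (Mono ((Over.forget _).map q))
  have h14 : IsIso q.left := Flat.isIso_of_surjective_of_mono q.left
  exact IsAffine.of_isIso q.left

end K398.RepFaith
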