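import Groth.Agent.AlgGrp.K398.Pts
import Groth.Agent.Sga3.H794.ChevProper
import Groth.Agent.Sga3.H780.RigidProper

/-!
# The Rosenlicht decomposition over an algebraically closed field
-/

set_option autoImplicit false
universe u
open CategoryTheory MonoidalCategory CartesianMonoidalCategory MonObj GrpObj AlgebraicGeometry
  CategoryTheory.Limits

namespace K398.Rosen

open Groth.Agent Groth.Agent.Books.AlgPts K398.Pts

variable {k : Type u} [Field k] [IsAlgClosed k]

/-- `G_aff ⟶ G ⟶ G / G_ant` is surjective. -/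
theorem surjective_comp {N G A M Q : Over (Spec (CommRingCat.of k))} [GrpObj N] [GrpObj G] [GrpObj A]
    [GrpObj M] [GrpObj Q] (i : N ⟶ G) (α : G ⟶ A) [IsMonHom i] [IsMonHom α] [Surjective α.left]
    [Flat α.left] [IsProper A.hom] (hk : AlgGrp.IsKernel i α) [Smooth N.hom] [IsAffine N.left]
    [Smooth G.hom] [QuasiCompact G.hom] [ConnectedSpace G.left]
    {n : M ⟶ G} {q : G ⟶ Q} (h : Affin.IsAffSeq n q) : Surjective (i ≫ q).left := by
  have := h.homN
  have := h.homQ
  have := h.affine
  have := h.ftQ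
  have := h.surj
  have := h.flat
  have hQs : Smooth Q.hom := smooth_of_flat_surjective q
  have hQq : QuasiCompact Q.hom := quasiCompact_of_surjective q
  have hNq : QuasiCompact N.hom := Sga3.H821.AffProper.quasiCompact_of_affine k N
  obtain ⟨C, _, p, c, hp, hc, hpc, hpf, hps, hplf, hcc⟩ := exists_image (i ≫ q)
  have hCft : LocallyOfFiniteType C.hom := by rw [← Over.w c]; infer_instance
  have hCs : Smooth C.hom := smooth_of_flat_surjective p
  have hcm : Mono c := Books.AlgPtsGrp.mono_of_isClosedImmersion c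
  have hiN : AlgGrp.IsNormalHom i := Sga3.H794.ChevKer.isNormalHom_ker i α hk
  -- `C` is normal in `Q`
  have hCn : AlgGrp.IsNormalHom c := by
    apply Sga3B.RG.BrPts.isNormalHom_of_points
    intro g x
    obtain ⟨g', rfl⟩ := exists_lift q g
    obtain ⟨x', rfl⟩ := exists_lift p x
    obtain ⟨y, hy⟩ := hiN _ g' x'
    refine ⟨y ≫ p, ?_⟩
    rw [Category.assoc, Category.assoc, hpc, ← Category.assoc, ← Category.assoc, ← hy,
      MonObj.mul_comp, MonObj.mul_comp, GrpObj.inv_comp]
  obtain ⟨R, _, r, hr1, hr2, hr3, hr4, hr5, hr6, hr7, hr8⟩ := S3030.result k C Q c hCn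
  have hRs : Smooth R.hom := hr8 hQs
  have hRq : QuasiCompact R.hom := quasiCompact_of_surjective r
  have hRc : ConnectedSpace R.left := by
    have : Surjective (q ≫ r).left := by rw [Over.comp_left]; infer_instance
    exact connectedSpace_of_surjective (q ≫ r)
  have hRred : IsReduced R.left := Books.AlgPtsSmooth.isReduced_of_smooth R
  have hRa : IsAffine R.left := isAffine_of_surjective r
  have h1 : i ≫ (q ≫ r) = toUnit N ≫ η[R] := by
    rw [← Category.assoc, ← hpc, Category.assoc, hr5.w, ← Category.assoc,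
      toUnit_unique (p ≫ toUnit C) (toUnit N)]
  obtain ⟨φ, hφ1, hφ2, -⟩ := S3280.result k G N A R α i hk (q ≫ r) h1
  have hφs : Surjective φ.left := by
    have : Surjective (α.left ≫ φ.left) := by
      rw [← Over.comp_left, hφ2, Over.comp_left]; infer_instance
    exact Surjective.of_comp α.left φ.left
  have hRp : IsProper R.hom := isProper_of_surjective φ
  have hRt : IsIso R.hom := isIso_hom_of_affine_proper
  have hci : IsIso c := isIso_of_isKernel c r hr5 hRt
  have : IsIso c.left := inferInstanceAs (IsIso ((Over.forget _).map c))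
  rw [← hpc, Over.comp_left]
  infer_instance

/-- **Rosenlicht decomposition**, on rational points: `G(k) = G_aff(k) · G_ant(k)`. -/
theorem exists_mul {N G A M Q : Over (Spec (CommRingCat.of k))} [GrpObj N] [GrpObj G] [GrpObj A]
    [GrpObj M] [GrpObj Q] (i : N ⟶ G) (α : G ⟶ A) [IsMonHom i] [IsMonHom α] [Surjective α.left]
    [Flat α.left] [IsProper A.hom] (hk : AlgGrp.IsKernel i α) [Smooth N.hom] [IsAffine N.left]
    [Smooth G.hom] [QuasiCompact G.hom] [ConnectedSpace G.left]
    {n : M ⟶ G} {q : G ⟶ Q} (h : Affin.IsAffSeq n q) (x : 𝟙_ (Over (Spec (CommRingCat.of k))) ⟶ G) :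
    ∃ (y : 𝟙_ (Over (Spec (CommRingCat.of k))) ⟶ N) (z : 𝟙_ (Over (Spec (CommRingCat.of k))) ⟶ M),
      (y ≫ i) * (z ≫ n) = x := by
  have h1 := surjective_comp i α hk h
  have := h.ftQ
  have := h.homQ
  obtain ⟨y, hy⟩ := exists_lift (i ≫ q) (x ≫ q)
  have h2 : ((y ≫ i)⁻¹ * x) ≫ q = toUnit _ ≫ η[Q] := by
    rw [MonObj.mul_comp, GrpObj.inv_comp, Category.assoc, hy, inv_mul_cancel]
    rfl
  refine ⟨y, h.ker.lift _ _ h2, ?_⟩
  rw [h.ker.lift_fst, mul_inv_cancel_left]

/-- **Rosenlicht decomposition**: the multiplication `G_aff × G_ant ⟶ G` is surjective. -/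
theorem surjective_mul {N G A M Q : Over (Spec (CommRingCat.of k))} [GrpObj N] [GrpObj G] [GrpObj A]
    [GrpObj M] [GrpObj Q] (i : N ⟶ G) (α : G ⟶ A) [IsMonHom i] [IsMonHom α] [Surjective α.left]
    [Flat α.left] [IsProper A.hom] (hk : AlgGrp.IsKernel i α) [Smooth N.hom] [IsAffine N.left]
    [Smooth G.hom] [QuasiCompact G.hom] [ConnectedSpace G.left]
    {n : M ⟶ G} {q : G ⟶ Q} (h : Affin.IsAffSeq n q) : Surjective ((i ⊗ₘ n) ≫ μ[G]).left := by
  have hNq : QuasiCompact N.hom := Sga3.H821.AffProper.quasiCompact_of_affine k N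
  have := h.smooth
  have := h.qcN
  have h1 : LocallyOfFiniteType (N ⊗ M).hom := by
    have : LocallyOfFiniteType (pullback.fst N.hom M.hom ≫ N.hom) := inferInstance
    exact this
  have h2 : QuasiCompact (N ⊗ M).hom := by
    have : QuasiCompact (pullback.fst N.hom M.hom ≫ N.hom) := inferInstance
    exact this
  apply surjective_of_forall_pt
  intro x
  obtain ⟨y, z, hyz⟩ := exists_mul i α hk h x
  refine ⟨lift y z, ?_⟩
  rw [← hyz, ← Category.assoc, lift_map, Hom.mul_def]

/-- The anti-affine part is contained in every closed subgroup `H` of `G` mapping onto `G / N`, where `N` is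
an affine normal subgroup with proper quotient. -/
theorem exists_fac_of_surjective {N G A M Q H : Over (Spec (CommRingCat.of k))} [GrpObj N] [GrpObj G]
    [GrpObj A] [GrpObj M] [GrpObj Q] [GrpObj H] (i : N ⟶ G) (α : G ⟶ A) [IsMonHom i] [IsMonHom α]
    [IsProper A.hom] [Smooth A.hom] [ConnectedSpace A.left] (hk : AlgGrp.IsKernel i α) [IsAffine N.left]
    [LocallyOfFiniteType G.hom] [QuasiCompact G.hom]
    {n : M ⟶ G} {q : G ⟶ Q} (hs : Affin.IsAffSeq n q) (h : H ⟶ G) [IsMonHom h] [IsClosedImmersion h.left]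
    [Surjective (h ≫ α).left] : ∃ f : M ⟶ H, f ≫ h = n := by
  have i1 := hs.homN
  have i2 := hs.homQ
  have i3 := hs.closed
  have i4 := hs.smooth
  have i5 := hs.qcN
  have i6 := hs.anti
  have i7 := hs.conn
  have i8 := hs.comm
  have hHft : LocallyOfFiniteType H.hom := by rw [← Over.w h]; infer_instance
  have hHqc : QuasiCompact H.hom := by rw [← Over.w h]; infer_instance
  -- the anti-affine part `P` of `H`
  obtain ⟨P, RH, _, _, p, ρ, hP⟩ := Affin.exists_affSeq H
  have j1 := hP.homN
  have j2 := hP.homQ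
  have j3 := hP.closed
  have j4 := hP.smooth
  have j5 := hP.qcN
  have j6 := hP.anti
  have j7 := hP.affine
  have j8 := hP.ftQ
  have j9 := hP.surj
  have j10 := hP.flat
  have hRHq : QuasiCompact RH.hom := quasiCompact_of_surjective ρ
  -- `A` is commutative
  have hAc : IsCommMonObj A := by
    have hgi := Sga3.H794.ChevProper.geometricallyIntegral A
    have : IsIso A.hom.appTop := Sga3.H780.RigidProper.isIso_appTop_hom A
    exact Books.AntiAffine.isCommMonObj A
  -- `P ⟶ A` is surjective
  have hPA : Surjective (p ≫ h ≫ α).left := by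
    obtain ⟨C, _, a, c, hp, hc, hpc, hpf, hps, hplf, hcc⟩ := exists_image (p ≫ h ≫ α)
    have hCft : LocallyOfFiniteType C.hom := by rw [← Over.w c]; infer_instance
    have hCs : Smooth C.hom := smooth_of_flat_surjective a
    have hcm : Mono c := Books.AlgPtsGrp.mono_of_isClosedImmersion c
    have hCn : AlgGrp.IsNormalHom c := by
      intro T g x
      refine ⟨x, ?_⟩
      have : g * (x ≫ c) = (x ≫ c) * g := mul_comm g (x ≫ c)
      rw [this, mul_inv_cancel_right]
    obtain ⟨R, _, r, hr1, hr2, hr3, hr4, hr5, hr6, hr7, hr8⟩ := S3030.result k C A c hCn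
    have hRs : Smooth R.hom := hr8 inferInstance
    have hRp : IsProper R.hom := isProper_of_surjective r
    have hRc : ConnectedSpace R.left := connectedSpace_of_surjective r
    have h1 : p ≫ (h ≫ α ≫ r) = toUnit P ≫ η[R] := by
      have : p ≫ (h ≫ α ≫ r) = (p ≫ h ≫ α) ≫ r := by simp only [Category.assoc]
      rw [this, ← hpc, Category.assoc, hr5.w, ← Category.assoc, toUnit_unique (a ≫ toUnit C) (toUnit P)]
    obtain ⟨φ, hφ1, hφ2, -⟩ := S3280.result k H P RH R ρ p hP.ker (h ≫ α ≫ r) h1
    have hφs : Surjective φ.left := by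
      have : Surjective (ρ.left ≫ φ.left) := by
        rw [← Over.comp_left, hφ2, ← Category.assoc, Over.comp_left]; infer_instance
      exact Surjective.of_comp ρ.left φ.left
    have hRred : IsReduced R.left := Books.AlgPtsSmooth.isReduced_of_smooth R
    have hRa : IsAffine R.left := isAffine_of_surjective φ
    have hRt : IsIso R.hom := isIso_hom_of_affine_proper
    have hci : IsIso c := isIso_of_isKernel c r hr5 hRt
    have : IsIso c.left := inferInstanceAs (IsIso ((Over.forget _).map c))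
    rw [← hpc, Over.comp_left]
    infer_instance
  -- `P` is a closed subgroup of `M`
  obtain ⟨b, hb⟩ := hs.exists_lift (p ≫ h)
  have hnm : Mono n := hs.mono
  have hbh : IsMonHom b := by
    refine ⟨?_, ?_⟩
    · rw [← cancel_mono n, Category.assoc, hb, IsMonHom.one_hom n, IsMonHom.one_hom]
    · rw [← cancel_mono n, Category.assoc, hb, IsMonHom.mul_hom, Category.assoc, IsMonHom.mul_hom n,
        ← Category.assoc, tensorHom_comp_tensorHom, hb]
  have hbc : IsClosedImmersion b.left := by
    have h1 : IsClosedImmersion (b.left ≫ n.left) := by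
      rw [← Over.comp_left, hb, Over.comp_left]; infer_instance
    exact IsClosedImmersion.of_comp b.left n.left
  have hbm : Mono b := Books.AlgPtsGrp.mono_of_isClosedImmersion b
  have hbn : AlgGrp.IsNormalHom b := by
    intro T g x
    refine ⟨x, ?_⟩
    have : g * (x ≫ b) = (x ≫ b) * g := mul_comm g (x ≫ b)
    rw [this, mul_inv_cancel_right]
  obtain ⟨R, _, r, hr1, hr2, hr3, hr4, hr5, hr6, hr7, hr8⟩ := S3030.result k P M b hbn
  have hRs : Smooth R.hom := hr8 inferInstance
  have hRq : QuasiCompact R.hom := quasiCompact_of_surjective r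
  have hRaa : IsIso R.hom.appTop := isIso_appTop_of_flat_surjective r
  -- the kernel `L` of `M ⟶ A` is affine and surjects onto `R`
  obtain ⟨_, hL⟩ := Sga3B.KerGrp.exists_grpObj (n ≫ α)
  have hLk := Sga3B.KerGrp.isPullback_ker (n ≫ α)
  have hLN : (Sga3B.KerGrp.kerι (n ≫ α) ≫ n) ≫ α = toUnit _ ≫ η[A] := by
    rw [Category.assoc]; exact hLk.w
  have hsepA : IsSeparated A.hom := inferInstance
  have hLc : IsClosedImmersion (Sga3B.KerGrp.kerι (n ≫ α)).left := inferInstance
  have hLcomp : IsClosedImmersion ((Sga3B.KerGrp.kerι (n ≫ α)) ≫ n).left := by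
    rw [Over.comp_left]; infer_instance
  have hLa : IsAffine (Sga3B.KerGrp.kerObj (n ≫ α)).left := by
    have h1 : IsClosedImmersion ((hk.lift _ _ hLN).left ≫ i.left) := by
      rw [← Over.comp_left, hk.lift_fst]; exact hLcomp
    have hic : IsClosedImmersion i.left := Sga3.H794.ChevKer.isClosedImmersion_ker i α hk
    have h2 : IsClosedImmersion (hk.lift _ _ hLN).left := IsClosedImmersion.of_comp _ i.left
    exact isAffine_of_isAffineHom (hk.lift _ _ hLN).left
  have hLft : LocallyOfFiniteType (Sga3B.KerGrp.kerObj (n ≫ α)).hom := by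
    rw [← Over.w (Sga3B.KerGrp.kerι (n ≫ α))]; infer_instance
  have hLqc : QuasiCompact (Sga3B.KerGrp.kerObj (n ≫ α)).hom := by
    rw [← Over.w (Sga3B.KerGrp.kerι (n ≫ α))]; infer_instance
  have hLs : Surjective (Sga3B.KerGrp.kerι (n ≫ α) ≫ r).left := by
    apply surjective_of_forall_pt
    intro x
    obtain ⟨m, rfl⟩ := exists_lift r x
    obtain ⟨y, hy⟩ := exists_lift (p ≫ h ≫ α) (m ≫ n ≫ α)
    obtain ⟨l, hl⟩ := Sga3B.KerGrp.exists_lift (n ≫ α) (m * (y ≫ b)⁻¹) (by
      have e1 : (y ≫ b) ≫ n ≫ α = y ≫ p ≫ h ≫ α := by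
        have : (y ≫ b) ≫ n ≫ α = y ≫ (b ≫ n) ≫ α := by simp only [Category.assoc]
        rw [this, hb]; simp only [Category.assoc]
      rw [MonObj.mul_comp, GrpObj.inv_comp, e1, hy, mul_inv_cancel])
    refine ⟨l, ?_⟩
    have e2 : b ≫ r = 1 := hr5.w
    rw [← Category.assoc, hl, MonObj.mul_comp, GrpObj.inv_comp, Category.assoc, e2, MonObj.comp_one,
      inv_one, _root_.mul_one]
  have hRred : IsReduced R.left := Books.AlgPtsSmooth.isReduced_of_smooth R
  have hRa : IsAffine R.left := isAffine_of_surjective (Sga3B.KerGrp.kerι (n ≫ α) ≫ r)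
  have hRt : IsIso R.hom := isIso_hom_of_affine_antiAffine hRaa
  have hbi : IsIso b := isIso_of_isKernel b r hr5 hRt
  refine ⟨inv b ≫ p, ?_⟩
  rw [Category.assoc, ← hb, IsIso.inv_hom_id_assoc]

end K398.Rosen
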