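import Groth.Agent.Sga3B.RG.BcPt885
import Groth.Agent.Sga3B.RadOpen.PtTorus
import Groth.Agent.Sga3B.RG.BrHc
import Groth.Agent.AlgGrp.K398.Pts

/-!
# Unipotent groups in characteristic `p` are killed by a power of `p`
-/

set_option autoImplicit false
universe u
open CategoryTheory MonoidalCategory CartesianMonoidalCategory MonObj GrpObj AlgebraicGeometry
  CategoryTheory.Limits

namespace K398.UnipPow

open Groth.Agent Groth.Agent.Sga3B.RG Groth.Agent.Sga3B.RadOpen

variable {K : Type u} [Field K] [IsAlgClosed K]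

section

variable {A : Type u} [CommRing A] [HopfAlgebra K A] [Algebra.FiniteType K A]

theorem exists_pow_apply [_root_.IsReduced A] (p : ℕ) [Fact p.Prime] [CharP K p] (a : A) :
    ∃ n : ℕ, ∀ g : Pt K A, IsUnip g → ∀ m : ℕ, n ≤ m → (g ^ (p ^ m)) a = (1 : Pt K A) a := by
  obtain ⟨n, hn⟩ := BcPt.exists_uniform_pow (K := K) a
  refine ⟨n, fun g hg m hm => ?_⟩
  have hnt : Nontrivial A := by
    refine ⟨⟨0, 1, fun h => ?_⟩⟩
    have h1 : (1 : Pt K A).ofConv 0 = (1 : Pt K A).ofConv 1 := by rw [h]
    rw [map_zero, map_one] at h1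
    exact zero_ne_one h1
  have hnt' : Nontrivial (Module.End K A) := inferInstance
  have hch : CharP (Module.End K A) p :=
    charP_of_injective_algebraMap (algebraMap K (Module.End K A)).injective p
  have hle : n ≤ p ^ m := hm.trans (Nat.lt_pow_self (Fact.out : p.Prime).one_lt).le
  have h1 : (((rTr g).toLinearMap - 1) ^ (p ^ m)) a = 0 := by
    obtain ⟨c, hc⟩ := Nat.exists_eq_add_of_le hle
    rw [hc, add_comm, pow_add, Module.End.mul_apply, hn g hg, map_zero]
  rw [sub_pow_char_pow_of_commute p m (Commute.one_right _), one_pow, LinearMap.sub_apply, sub_eq_zero] at h1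
  have h2 := BcPt.apply_pow_rTr g 1 (p ^ m) a
  rw [h1, _root_.one_mul] at h2
  exact h2.symm

/-- Unipotent elements have uniformly bounded `p`-power order. -/
theorem exists_pow_eq_one [_root_.IsReduced A] (p : ℕ) [Fact p.Prime] [CharP K p] :
    ∃ n : ℕ, ∀ g : Pt K A, IsUnip g → g ^ (p ^ n) = 1 := by
  obtain ⟨s, hs⟩ := (inferInstance : Algebra.FiniteType K A).out
  choose n hn using fun a : A => exists_pow_apply (K := K) p a
  refine ⟨s.sup n, fun g hg => ?_⟩
  apply WithConv.ofConv_injective
  apply AlgHom.ext_of_adjoin_eq_top hs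
  intro a ha
  exact hn a g hg _ (Finset.le_sup ha)

end

/-- A smooth connected affine group without subtori is killed by a power of the characteristic. -/
theorem exists_pow_id_eq_one (p : ℕ) [Fact p.Prime] [CharP K p] (U : Over (Spec (CommRingCat.of K))) [GrpObj U]
    [Smooth U.hom] [ConnectedSpace U.left] [IsAffine U.left] (hU : Red.HasNoSubtorus K U) :
    ∃ n : ℕ, (𝟙 U : U ⟶ U) ^ (p ^ n) = 1 := by
  obtain ⟨A, _, _, e, he, hft⟩ := BrHc.exists_hopf_ft U
  have hIso : IsIso e.hom.left := inferInstanceAs (IsIso ((Over.forget _).mapIso e).hom)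
  have hred : IsReduced U.left := Books.AlgPtsSmooth.isReduced_of_smooth U
  have hA : _root_.IsReduced A := by
    have h1 : IsReduced (Books.AffBridge.SpecOver K A).left := by
      have hIso' : IsIso e.inv.left := inferInstanceAs (IsIso ((Over.forget _).mapIso e).inv)
      exact isReduced_of_isOpenImmersion e.inv.left
    have h2 : IsReduced (Spec (CommRingCat.of A)) := h1
    exact (affine_isReduced_iff (CommRingCat.of A)).1 h2
  obtain ⟨n, hn⟩ := exists_pow_eq_one (K := K) (A := A) p
  have h1 := isUnip_of_hasNoSubtorus e.hom hU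
  refine ⟨n, ?_⟩
  have hs : IsSeparated U.hom := Books.AntiAffine.isSeparated_hom U
  apply BrPts.hom_ext_of_points
  intro x
  rw [MonObj.comp_pow, Category.comp_id, MonObj.comp_one]
  have hm : Mono e.hom := inferInstance
  rw [← cancel_mono e.hom, MonObj.pow_comp, MonObj.one_comp]
  obtain ⟨g, hg⟩ := (BrPts.ptEquiv K A).surjective (x ≫ e.hom)
  have h2 : g ∈ BrPts.ptsSub e.hom := ⟨x, hg.symm⟩
  rw [← hg, ← map_pow, hn g (h1 g h2), map_one]

end K398.UnipPow
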